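import Mathlib

set_option autoImplicit false
set_option linter.unusedSectionVars false

/-!
# Sylow 2-subgroups of the form `Q × R`, `Q` generalized quaternion

If all involutions of `R` are central in `R`, then some involution of `Z(S)` is fixed by `N_G(S)`,
hence isolated (Burnside).  With the `Z*`-theorem (taken as a hypothesis here) `G` is not simple.
-/

namespace Cfsg.Agent.Lib.Helper5.QDir

open QuaternionGroup

section quat

variable {m : ℕ} [NeZero m]

theorem zmod_double (j : ZMod (2 * m)) (h : j + j = 0) : j = 0 ∨ j = (m : ZMod (2 * m)) := by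
  have hm : m ≠ 0 := NeZero.ne m
  have : NeZero (2 * m) := ⟨by omega⟩
  have hj : ((j.val + j.val : ℕ) : ZMod (2 * m)) = 0 := by
    rw [Nat.cast_add, ZMod.natCast_zmod_val, h]
  rw [ZMod.natCast_eq_zero_iff] at hj
  have hlt : j.val < 2 * m := ZMod.val_lt j
  obtain ⟨k, hk⟩ := hj
  have hk' : j.val = m * k := by
    have : 2 * j.val = 2 * (m * k) := by rw [← two_mul] at hk; rw [hk]; ring
    omega
  have hk2 : k = 0 ∨ k = 1 := by
    have : m * k < m * 2 := by rw [← hk']; omega
    have := Nat.lt_of_mul_lt_mul_left this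
    omega
  rcases hk2 with rfl | rfl
  · left
    rw [mul_zero] at hk'
    exact (ZMod.val_eq_zero j).mp hk'
  · right
    rw [mul_one] at hk'
    rw [← ZMod.natCast_zmod_val j, hk']

theorem cast_ne_zero : (m : ZMod (2 * m)) ≠ 0 := by
  have hm : m ≠ 0 := NeZero.ne m
  intro h
  rw [ZMod.natCast_eq_zero_iff] at h
  have := Nat.le_of_dvd (Nat.pos_of_ne_zero hm) h
  omega

theorem a_m_sq : (a (m : ZMod (2 * m)) : QuaternionGroup m) * a (m : ZMod (2 * m)) = 1 := by
  rw [a_mul_a, one_def]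
  congr 1
  have : ((m : ZMod (2 * m)) + m) = ((2 * m : ℕ) : ZMod (2 * m)) := by push_cast; ring
  rw [this, ZMod.natCast_self]

theorem a_m_ne_one : (a (m : ZMod (2 * m)) : QuaternionGroup m) ≠ 1 := by
  rw [one_def]
  intro h
  exact cast_ne_zero (a.inj h)

theorem involution_unique (g : QuaternionGroup m) (h2 : g * g = 1) (h1 : g ≠ 1) :
    g = a (m : ZMod (2 * m)) := by
  cases g with
  | a i =>
    rw [a_mul_a, one_def] at h2
    rcases zmod_double i (a.inj h2) with rfl | rfl
    · exact absurd (one_def (n := m)).symm h1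
    · rfl
  | xa i =>
    exfalso
    rw [xa_mul_xa, one_def] at h2
    have := a.inj h2
    rw [add_sub_cancel_right] at this
    exact cast_ne_zero this

theorem not_comm (hm : 2 ≤ m) : ∃ x y : QuaternionGroup m, x * y ≠ y * x := by
  refine ⟨a 1, xa 0, ?_⟩
  rw [a_mul_xa, xa_mul_a]
  intro h
  have h1 := xa.inj h
  have h2 : (1 : ZMod (2 * m)) + 1 = 0 := by
    have : (0 : ZMod (2 * m)) - 1 + 1 = 0 + 1 + 1 := by rw [h1]
    rw [sub_add_cancel, zero_add] at this
    exact this.symm
  have h3 : ((2 : ℕ) : ZMod (2 * m)) = 0 := by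
    rw [← h2]; push_cast; ring
  rw [ZMod.natCast_eq_zero_iff] at h3
  have := Nat.le_of_dvd (by norm_num) h3
  omega

end quat

section main

variable {G : Type*} [Group G]

theorem exists_mul_of_mem_sup {Q R : Subgroup G} (hcomm : ∀ a ∈ Q, ∀ b ∈ R, a * b = b * a) {s : G}
    (hs : s ∈ Q ⊔ R) : ∃ q ∈ Q, ∃ r ∈ R, s = q * r := by
  rw [Subgroup.sup_eq_closure] at hs
  induction hs using Subgroup.closure_induction with
  | mem x hx =>
    rcases hx with hx | hx
    · exact ⟨x, hx, 1, R.one_mem, (mul_one x).symm⟩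
    · exact ⟨1, Q.one_mem, x, hx, (one_mul x).symm⟩
  | one => exact ⟨1, Q.one_mem, 1, R.one_mem, (mul_one 1).symm⟩
  | mul x y _ _ ihx ihy =>
    obtain ⟨q1, hq1, r1, hr1, rfl⟩ := ihx
    obtain ⟨q2, hq2, r2, hr2, rfl⟩ := ihy
    refine ⟨q1 * q2, Q.mul_mem hq1 hq2, r1 * r2, R.mul_mem hr1 hr2, ?_⟩
    have h := hcomm q2 hq2 r1 hr1
    calc q1 * r1 * (q2 * r2) = q1 * (r1 * q2) * r2 := by group
      _ = q1 * (q2 * r1) * r2 := by rw [h]
      _ = q1 * q2 * (r1 * r2) := by group
  | inv x _ ih =>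
    obtain ⟨q, hq, r, hr, rfl⟩ := ih
    refine ⟨q⁻¹, Q.inv_mem hq, r⁻¹, R.inv_mem hr, ?_⟩
    have h := hcomm q⁻¹ (Q.inv_mem hq) r⁻¹ (R.inv_mem hr)
    rw [mul_inv_rev, h]

theorem multiset_noncommProd_congr {α : Type*} [Monoid α] {m₁ m₂ : Multiset α} (h : m₁ = m₂)
    (p₁ : {x | x ∈ m₁}.Pairwise Commute) (p₂ : {x | x ∈ m₂}.Pairwise Commute) :
    m₁.noncommProd p₁ = m₂.noncommProd p₂ := by
  subst h; rfl

theorem noncommProd_perm {α : Type*} [DecidableEq α] [Monoid α] (s : Finset α) (c : α → α)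
    (hinj : Set.InjOn c s) (himg : s.image c = s)
    (comm1 : (s : Set α).Pairwise (Function.onFun Commute c))
    (comm2 : (s : Set α).Pairwise (Function.onFun Commute id)) :
    s.noncommProd c comm1 = s.noncommProd id comm2 := by
  unfold Finset.noncommProd
  apply multiset_noncommProd_congr
  rw [Multiset.map_id, ← Finset.image_val_of_injOn hinj, himg]

theorem exists_involution_of_ne_bot [Finite G] (S : Sylow 2 G) (K : Subgroup G) (hKS : K ≤ S)
    (hK : K ≠ ⊥) : ∃ t ∈ K, t * t = 1 ∧ t ≠ 1 := by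
  have : Fact (Nat.Prime 2) := ⟨Nat.prime_two⟩
  have hp : IsPGroup 2 ↥K := S.isPGroup'.to_le hKS
  obtain ⟨j, hj⟩ := hp.exists_card_eq
  have hj0 : j ≠ 0 := by
    rintro rfl
    rw [pow_zero, Subgroup.card_eq_one] at hj
    exact hK hj
  have hdvd : 2 ∣ Nat.card ↥K := by rw [hj]; exact dvd_pow_self 2 hj0
  obtain ⟨x, hx⟩ := exists_prime_orderOf_dvd_card' 2 hdvd
  refine ⟨x, x.2, ?_, ?_⟩
  · have : x ^ 2 = 1 := by rw [← hx]; exact pow_orderOf_eq_one x
    have h2 := congrArg Subtype.val this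
    rw [pow_two] at h2
    exact h2
  · intro h
    have : x = 1 := Subtype.ext h
    rw [this, orderOf_one] at hx
    norm_num at hx


theorem exists_isolated [Finite G] (S : Sylow 2 G) (Q R : Subgroup G)
    (hQS : Q ≤ S) (hRS : R ≤ S) (hcomm : ∀ a ∈ Q, ∀ b ∈ R, a * b = b * a)
    (hinf : Q ⊓ R = ⊥) (hsup : Q ⊔ R = S)
    (m : ℕ) (hm : 2 ≤ m) (eQ : ↥Q ≃* QuaternionGroup m)
    (hR : ∀ r ∈ R, orderOf r = 2 → ∀ s ∈ R, r * s = s * r) :
    ∃ u : G, orderOf u = 2 ∧ u ∈ S ∧ (∀ g : G, g * u * g⁻¹ ∈ S → g * u * g⁻¹ = u) ∧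
      ∃ x y : G, x * y ≠ y * x := by
  classical
  have : NeZero m := ⟨by omega⟩
  have : Fact (Nat.Prime 2) := ⟨Nat.prime_two⟩
  set z : G := ((eQ.symm (a (m : ZMod (2 * m))) : ↥Q) : G) with hz
  have hzQ : z ∈ Q := (eQ.symm _).2
  have hzz : z * z = 1 := by
    have : eQ.symm (a (m : ZMod (2 * m))) * eQ.symm (a (m : ZMod (2 * m))) = 1 := by
      rw [← map_mul, a_m_sq, map_one]
    exact congrArg Subtype.val this
  have hz1 : z ≠ 1 := by
    intro h
    have : eQ.symm (a (m : ZMod (2 * m))) = 1 := Subtype.ext h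
    rw [MulEquiv.map_eq_one_iff] at this
    exact a_m_ne_one this
  have huniq : ∀ t ∈ Q, t * t = 1 → t ≠ 1 → t = z := by
    intro t ht htt ht1
    have h1 : eQ ⟨t, ht⟩ * eQ ⟨t, ht⟩ = 1 := by
      rw [← map_mul]
      have : (⟨t, ht⟩ : ↥Q) * ⟨t, ht⟩ = 1 := Subtype.ext htt
      rw [this, map_one]
    have h2 : eQ ⟨t, ht⟩ ≠ 1 := by
      intro h
      rw [MulEquiv.map_eq_one_iff] at h
      exact ht1 (congrArg Subtype.val h)
    have h3 := involution_unique _ h1 h2
    have h4 : (⟨t, ht⟩ : ↥Q) = eQ.symm (a (m : ZMod (2 * m))) := by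
      rw [← h3, MulEquiv.symm_apply_apply]
    exact congrArg Subtype.val h4
  have hncomm : ∃ x ∈ Q, ∃ y ∈ Q, x * y ≠ y * x := by
    obtain ⟨x, y, hxy⟩ := not_comm (m := m) hm
    refine ⟨eQ.symm x, (eQ.symm x).2, eQ.symm y, (eQ.symm y).2, ?_⟩
    intro h
    apply hxy
    have : eQ.symm x * eQ.symm y = eQ.symm y * eQ.symm x := Subtype.ext h
    rw [← map_mul, ← map_mul] at this
    exact eQ.symm.injective this
  have hdecomp : ∀ s ∈ (S : Subgroup G), ∃ q ∈ Q, ∃ r ∈ R, s = q * r := by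
    intro s hs
    rw [← hsup] at hs
    exact exists_mul_of_mem_sup hcomm hs
  have hQnorm : ∀ s ∈ (S : Subgroup G), ∀ q ∈ Q, s * q * s⁻¹ ∈ Q := by
    intro s hs q hq
    obtain ⟨q1, hq1, r1, hr1, rfl⟩ := hdecomp s hs
    have h := hcomm q hq r1 hr1
    have : q1 * r1 * q * (q1 * r1)⁻¹ = q1 * (r1 * q) * r1⁻¹ * q1⁻¹ := by group
    rw [this, ← h]
    have : q1 * (q * r1) * r1⁻¹ * q1⁻¹ = q1 * q * q1⁻¹ := by group
    rw [this]
    exact Q.mul_mem (Q.mul_mem hq1 hq) (Q.inv_mem hq1)
  have hRnorm : ∀ s ∈ (S : Subgroup G), ∀ r ∈ R, s * r * s⁻¹ ∈ R := by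
    intro s hs r hr
    obtain ⟨q1, hq1, r1, hr1, rfl⟩ := hdecomp s hs
    have hrr : r1 * r * r1⁻¹ ∈ R := R.mul_mem (R.mul_mem hr1 hr) (R.inv_mem hr1)
    have h := hcomm q1 hq1 _ hrr
    have : q1 * r1 * r * (q1 * r1)⁻¹ = q1 * (r1 * r * r1⁻¹) * q1⁻¹ := by group
    rw [this, h]
    have : r1 * r * r1⁻¹ * q1 * q1⁻¹ = r1 * r * r1⁻¹ := by group
    rw [this]
    exact hrr
  have hzcentQ : ∀ t ∈ Q, t * z = z * t := by
    intro t ht
    have h1 : t * z * t⁻¹ ∈ Q := Q.mul_mem (Q.mul_mem ht hzQ) (Q.inv_mem ht)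
    have h2 : t * z * t⁻¹ * (t * z * t⁻¹) = 1 := by
      have : t * z * t⁻¹ * (t * z * t⁻¹) = t * (z * z) * t⁻¹ := by group
      rw [this, hzz]; group
    have h3 : t * z * t⁻¹ ≠ 1 := by
      intro h
      apply hz1
      have : z = t⁻¹ * (t * z * t⁻¹) * t := by group
      rw [this, h]; group
    have h4 := huniq _ h1 h2 h3
    calc t * z = t * z * t⁻¹ * t := by group
      _ = z * t := by rw [h4]
  have hzcent : ∀ s ∈ (S : Subgroup G), s * z = z * s := by
    intro s hs
    obtain ⟨q1, hq1, r1, hr1, rfl⟩ := hdecomp s hs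
    have h1 := hcomm z hzQ r1 hr1
    have h2 := hzcentQ q1 hq1
    calc q1 * r1 * z = q1 * (r1 * z) := by group
      _ = q1 * (z * r1) := by rw [h1]
      _ = q1 * z * r1 := by group
      _ = z * q1 * r1 := by rw [h2]
      _ = z * (q1 * r1) := by group
  -- involutions of S are central in S
  have hinvcent : ∀ s ∈ (S : Subgroup G), s * s = 1 → ∀ t ∈ (S : Subgroup G), s * t = t * s := by
    intro s hs hss t ht
    obtain ⟨q, hq, r, hr, rfl⟩ := hdecomp s hs
    have hqr := hcomm q hq r hr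
    have h1 : q * q * (r * r) = 1 := by
      have : q * q * (r * r) = q * (q * r) * r := by group
      rw [this, hqr]
      have : q * (r * q) * r = q * r * (q * r) := by group
      rw [this, hss]
    have hqq : q * q ∈ Q ⊓ R := by
      refine ⟨Q.mul_mem hq hq, ?_⟩
      have : q * q = (r * r)⁻¹ := eq_inv_of_mul_eq_one_left h1
      rw [this]
      exact R.inv_mem (R.mul_mem hr hr)
    rw [hinf, Subgroup.mem_bot] at hqq
    have hrr : r * r = 1 := by rw [hqq, one_mul] at h1; exact h1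
    -- q central in S
    have hqc : ∀ t ∈ (S : Subgroup G), q * t = t * q := by
      intro t ht
      by_cases hq1 : q = 1
      · rw [hq1, one_mul, mul_one]
      · rw [huniq q hq hqq hq1]; exact (hzcent t ht).symm
    have hrc : ∀ t ∈ (S : Subgroup G), r * t = t * r := by
      intro t ht
      by_cases hr1 : r = 1
      · rw [hr1, one_mul, mul_one]
      · have hor : orderOf r = 2 := orderOf_eq_prime (by rw [pow_two]; exact hrr) hr1
        obtain ⟨q', hq', r', hr', rfl⟩ := hdecomp t ht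
        have h2 := hR r hr hor r' hr'
        have h3 := hcomm q' hq' r hr
        calc r * (q' * r') = (r * q') * r' := by group
          _ = q' * r * r' := by rw [h3]
          _ = q' * (r * r') := by group
          _ = q' * (r' * r) := by rw [h2]
          _ = q' * r' * r := by group
    calc q * r * t = q * (r * t) := by group
      _ = q * (t * r) := by rw [hrc t ht]
      _ = (q * t) * r := by group
      _ = t * q * r := by rw [hqc t ht]
      _ = t * (q * r) := by group
  -- the normalizer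
  set N : Subgroup G := Subgroup.normalizer ((S : Subgroup G) : Set G) with hN
  have hNmem : ∀ g ∈ N, ∀ s : G, s ∈ (S : Subgroup G) ↔ g * s * g⁻¹ ∈ (S : Subgroup G) := by
    intro g hg s
    exact (Subgroup.mem_normalizer_iff.mp hg) s
  have hzS : z ∈ (S : Subgroup G) := hQS hzQ
  -- key lemma
  have hkey : ∀ g ∈ N, g * z * g⁻¹ = z ∨ g * z * g⁻¹ ∈ R := by
    intro g hg
    have hginv : g⁻¹ ∈ N := N.inv_mem hg
    by_cases h1 : ∃ t ∈ Q, t ≠ 1 ∧ g * t * g⁻¹ ∈ Q
    · left
      obtain ⟨t, ht, ht1, htQ⟩ := h1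
      let K : Subgroup G := Q ⊓ Q.comap (MulAut.conj g).toMonoidHom
      have hK : K ≠ ⊥ := by
        intro h
        have : t ∈ K := ⟨ht, by simpa [Subgroup.mem_comap] using htQ⟩
        rw [h, Subgroup.mem_bot] at this
        exact ht1 this
      obtain ⟨t0, ht0K, ht0t0, ht01⟩ :=
        exists_involution_of_ne_bot S K (inf_le_left.trans hQS) hK
      have e1 : t0 = z := huniq t0 ht0K.1 ht0t0 ht01
      have h2 : g * t0 * g⁻¹ ∈ Q := by simpa [Subgroup.mem_comap] using ht0K.2
      have h3 : g * t0 * g⁻¹ * (g * t0 * g⁻¹) = 1 := by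
        have : g * t0 * g⁻¹ * (g * t0 * g⁻¹) = g * (t0 * t0) * g⁻¹ := by group
        rw [this, ht0t0]; group
      have h4 : g * t0 * g⁻¹ ≠ 1 := by
        intro h
        apply ht01
        have : t0 = g⁻¹ * (g * t0 * g⁻¹) * g := by group
        rw [this, h]; group
      have := huniq _ h2 h3 h4
      rw [e1] at this
      exact this
    by_cases h2 : ∃ t ∈ Q, t ≠ 1 ∧ g * t * g⁻¹ ∈ R
    · right
      obtain ⟨t, ht, ht1, htR⟩ := h2
      let K : Subgroup G := Q ⊓ R.comap (MulAut.conj g).toMonoidHom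
      have hK : K ≠ ⊥ := by
        intro h
        have : t ∈ K := ⟨ht, by simpa [Subgroup.mem_comap] using htR⟩
        rw [h, Subgroup.mem_bot] at this
        exact ht1 this
      obtain ⟨t0, ht0K, ht0t0, ht01⟩ :=
        exists_involution_of_ne_bot S K (inf_le_left.trans hQS) hK
      have e1 : t0 = z := huniq t0 ht0K.1 ht0t0 ht01
      have h3 : g * t0 * g⁻¹ ∈ R := by simpa [Subgroup.mem_comap] using ht0K.2
      rw [e1] at h3
      exact h3
    · exfalso
      simp only [not_exists, not_and] at h1 h2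
      -- every conjugate g t g⁻¹ (t ∈ Q) is central in S
      have hcentral : ∀ t ∈ Q, ∀ s ∈ (S : Subgroup G), s * (g * t * g⁻¹) = g * t * g⁻¹ * s := by
        intro t ht
        have ht1S : g * t * g⁻¹ ∈ (S : Subgroup G) := (hNmem g hg t).mp (hQS ht)
        -- generic step: for s ∈ S, s (g t g⁻¹) s⁻¹ (g t g⁻¹)⁻¹ = g (t' t⁻¹) g⁻¹ with t' ∈ Q
        have hstep : ∀ s ∈ (S : Subgroup G), ∃ t' ∈ Q,
            s * (g * t * g⁻¹) * s⁻¹ * (g * t * g⁻¹)⁻¹ = g * (t' * t⁻¹) * g⁻¹ := by
          intro s hs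
          have hs' : g⁻¹ * s * g ∈ (S : Subgroup G) := by
            have := (hNmem g⁻¹ hginv s).mp hs
            rwa [inv_inv] at this
          refine ⟨(g⁻¹ * s * g) * t * (g⁻¹ * s * g)⁻¹, hQnorm _ hs' t ht, ?_⟩
          group
        have hR' : ∀ r ∈ R, r * (g * t * g⁻¹) = g * t * g⁻¹ * r := by
          intro r hr
          obtain ⟨t', ht', he⟩ := hstep r (hRS hr)
          have hmemR : r * (g * t * g⁻¹) * r⁻¹ * (g * t * g⁻¹)⁻¹ ∈ R := by
            have h5 : (g * t * g⁻¹) * r⁻¹ * (g * t * g⁻¹)⁻¹ ∈ R :=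
              hRnorm _ ht1S _ (R.inv_mem hr)
            have : r * (g * t * g⁻¹) * r⁻¹ * (g * t * g⁻¹)⁻¹
                = r * ((g * t * g⁻¹) * r⁻¹ * (g * t * g⁻¹)⁻¹) := by group
            rw [this]
            exact R.mul_mem hr h5
          rw [he] at hmemR
          have h6 : t' * t⁻¹ = 1 := by
            by_contra hne
            exact h2 _ (Q.mul_mem ht' (Q.inv_mem ht)) hne hmemR
          rw [h6] at he
          have h7 : r * (g * t * g⁻¹) * r⁻¹ * (g * t * g⁻¹)⁻¹ = 1 := by rw [he]; group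
          have h8 : r * (g * t * g⁻¹) * r⁻¹ = g * t * g⁻¹ := by
            have := mul_inv_eq_one.mp h7
            exact this
          calc r * (g * t * g⁻¹) = r * (g * t * g⁻¹) * r⁻¹ * r := by group
            _ = g * t * g⁻¹ * r := by rw [h8]
        have hQ' : ∀ q ∈ Q, q * (g * t * g⁻¹) = g * t * g⁻¹ * q := by
          intro q hq
          obtain ⟨t', ht', he⟩ := hstep q (hQS hq)
          have hmemQ : q * (g * t * g⁻¹) * q⁻¹ * (g * t * g⁻¹)⁻¹ ∈ Q := by
            have h5 : (g * t * g⁻¹) * q⁻¹ * (g * t * g⁻¹)⁻¹ ∈ Q :=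
              hQnorm _ ht1S _ (Q.inv_mem hq)
            have : q * (g * t * g⁻¹) * q⁻¹ * (g * t * g⁻¹)⁻¹
                = q * ((g * t * g⁻¹) * q⁻¹ * (g * t * g⁻¹)⁻¹) := by group
            rw [this]
            exact Q.mul_mem hq h5
          rw [he] at hmemQ
          have h6 : t' * t⁻¹ = 1 := by
            by_contra hne
            exact h1 _ (Q.mul_mem ht' (Q.inv_mem ht)) hne hmemQ
          rw [h6] at he
          have h7 : q * (g * t * g⁻¹) * q⁻¹ * (g * t * g⁻¹)⁻¹ = 1 := by rw [he]; group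
          have h8 : q * (g * t * g⁻¹) * q⁻¹ = g * t * g⁻¹ := mul_inv_eq_one.mp h7
          calc q * (g * t * g⁻¹) = q * (g * t * g⁻¹) * q⁻¹ * q := by group
            _ = g * t * g⁻¹ * q := by rw [h8]
        intro s hs
        obtain ⟨q, hq, r, hr, rfl⟩ := hdecomp s hs
        calc q * r * (g * t * g⁻¹) = q * (r * (g * t * g⁻¹)) := by group
          _ = q * (g * t * g⁻¹ * r) := by rw [hR' r hr]
          _ = (q * (g * t * g⁻¹)) * r := by group
          _ = g * t * g⁻¹ * q * r := by rw [hQ' q hq]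
          _ = g * t * g⁻¹ * (q * r) := by group
      obtain ⟨x, hx, y, hy, hxy⟩ := hncomm
      apply hxy
      have hyS : g * y * g⁻¹ ∈ (S : Subgroup G) := (hNmem g hg y).mp (hQS hy)
      have := hcentral x hx _ hyS
      have h9 : g * (y * x) * g⁻¹ = g * (x * y) * g⁻¹ := by
        calc g * (y * x) * g⁻¹ = g * y * g⁻¹ * (g * x * g⁻¹) := by group
          _ = g * x * g⁻¹ * (g * y * g⁻¹) := this
          _ = g * (x * y) * g⁻¹ := by group
      have h10 := mul_left_cancel (mul_right_cancel h9)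
      exact h10.symm
  -- the orbit
  let _ : Fintype ↥N := Fintype.ofFinite _
  set O : Finset G := Finset.univ.image (fun g : ↥N => (g : G) * z * (g : G)⁻¹) with hOdef
  have hO : ∀ o ∈ O, ∃ g ∈ N, o = g * z * g⁻¹ := by
    intro o ho
    rw [hOdef, Finset.mem_image] at ho
    obtain ⟨g, -, rfl⟩ := ho
    exact ⟨g, g.2, rfl⟩
  have hOmem : ∀ g ∈ N, g * z * g⁻¹ ∈ O := by
    intro g hg
    rw [hOdef, Finset.mem_image]
    exact ⟨⟨g, hg⟩, Finset.mem_univ _, rfl⟩
  have hOS : ∀ o ∈ O, o ∈ (S : Subgroup G) ∧ o * o = 1 := by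
    intro o ho
    obtain ⟨g, hg, rfl⟩ := hO o ho
    refine ⟨(hNmem g hg z).mp hzS, ?_⟩
    have : g * z * g⁻¹ * (g * z * g⁻¹) = g * (z * z) * g⁻¹ := by group
    rw [this, hzz]; group
  have hOcent : ∀ o ∈ O, ∀ t ∈ (S : Subgroup G), o * t = t * o := fun o ho =>
    hinvcent o (hOS o ho).1 (hOS o ho).2
  have comm : (O : Set G).Pairwise (Function.onFun Commute id) := by
    intro a ha b hb _
    exact hOcent a ha b (hOS b hb).1
  set u : G := O.noncommProd id comm with hu
  -- properties of u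
  have hPu : u ∈ (S : Subgroup G) ∧ u * u = 1 ∧ ∀ t ∈ (S : Subgroup G), u * t = t * u := by
    apply Finset.noncommProd_induction O id comm
      (fun a => a ∈ (S : Subgroup G) ∧ a * a = 1 ∧ ∀ t ∈ (S : Subgroup G), a * t = t * a)
    · rintro a b ⟨haS, haa, hac⟩ ⟨hbS, hbb, hbc⟩
      refine ⟨Subgroup.mul_mem _ haS hbS, ?_, ?_⟩
      · have hab := hac b hbS
        calc a * b * (a * b) = a * (b * a) * b := by group
          _ = a * (a * b) * b := by rw [hab]
          _ = (a * a) * (b * b) := by group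
          _ = 1 := by rw [haa, hbb, one_mul]
      · intro t ht
        calc a * b * t = a * (b * t) := by group
          _ = a * (t * b) := by rw [hbc t ht]
          _ = (a * t) * b := by group
          _ = t * a * b := by rw [hac t ht]
          _ = t * (a * b) := by group
    · exact ⟨Subgroup.one_mem _, one_mul 1, fun t _ => by rw [one_mul, mul_one]⟩
    · intro o ho
      exact ⟨(hOS o ho).1, (hOS o ho).2, hOcent o ho⟩
  have hzO : z ∈ O := by
    have := hOmem 1 N.one_mem
    simpa using this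
  have hu1 : u ≠ 1 := by
    have hsplit := Finset.mul_noncommProd_erase O hzO id comm
    have hw : (O.erase z).noncommProd id
        (fun x hx y hy hxy => comm (Finset.mem_of_mem_erase hx) (Finset.mem_of_mem_erase hy) hxy) ∈ R := by
      apply Finset.noncommProd_induction (O.erase z) id _ (fun a => a ∈ R)
      · intro a b ha hb; exact R.mul_mem ha hb
      · exact R.one_mem
      · intro o ho
        obtain ⟨hne, hoO⟩ := Finset.mem_erase.mp ho
        obtain ⟨g, hg, rfl⟩ := hO o hoO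
        rcases hkey g hg with h | h
        · exact absurd h hne
        · exact h
    intro h1
    rw [← hu, h1] at hsplit
    have hzR : z ∈ R := by
      have : z = ((O.erase z).noncommProd id
        (fun x hx y hy hxy => comm (Finset.mem_of_mem_erase hx) (Finset.mem_of_mem_erase hy) hxy))⁻¹ :=
        eq_inv_of_mul_eq_one_left hsplit
      rw [this]
      exact R.inv_mem hw
    have : z ∈ Q ⊓ R := ⟨hzQ, hzR⟩
    rw [hinf, Subgroup.mem_bot] at this
    exact hz1 this
  have hu2 : orderOf u = 2 := orderOf_eq_prime (by rw [pow_two]; exact hPu.2.1) hu1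
  -- invariance under N
  have hinvar : ∀ g ∈ N, g * u * g⁻¹ = u := by
    intro g hg
    have hginv : g⁻¹ ∈ N := N.inv_mem hg
    have h1 := Finset.map_noncommProd O id comm (MulAut.conj g)
    have himg : O.image (fun o => (MulAut.conj g) (id o)) = O := by
      apply Finset.eq_of_subset_of_card_le
      · intro o ho
        rw [Finset.mem_image] at ho
        obtain ⟨o', ho', rfl⟩ := ho
        obtain ⟨h, hh, rfl⟩ := hO o' ho'
        have : (MulAut.conj g) (id (h * z * h⁻¹)) = (g * h) * z * (g * h)⁻¹ := by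
          simp [MulAut.conj_apply]; group
        rw [this]
        exact hOmem _ (N.mul_mem hg hh)
      · have hinj : Function.Injective (fun o : G => (MulAut.conj g) (id o)) :=
          fun a b hab => (MulAut.conj g).injective hab
        exact (Finset.card_image_of_injective O hinj).ge
    have h2 := noncommProd_perm O (fun o => (MulAut.conj g) (id o))
      (fun a _ b _ hab => (MulAut.conj g).injective hab) himg
      (by
        intro a ha b hb hab
        show Commute ((MulAut.conj g) (id a)) ((MulAut.conj g) (id b))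
        exact (comm ha hb hab).map (MulAut.conj g)) comm
    rw [h2] at h1
    rw [← hu, MulAut.conj_apply] at h1
    exact h1
  refine ⟨u, hu2, hPu.1, ?_, ?_⟩
  · intro g hgS
    -- Burnside
    have hvS := hgS
    have hvv : g * u * g⁻¹ * (g * u * g⁻¹) = 1 := by
      have : g * u * g⁻¹ * (g * u * g⁻¹) = g * (u * u) * g⁻¹ := by group
      rw [this, hPu.2.1]; group
    have hvc := hinvcent _ hvS hvv
    have hxc : u ∈ Subgroup.centralizer ((S : Subgroup G) : Set G) := by
      rw [Subgroup.mem_centralizer_iff]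
      intro t ht
      exact (hPu.2.2 t ht).symm
    have hyc : (g⁻¹)⁻¹ * u * g⁻¹ ∈ Subgroup.centralizer ((S : Subgroup G) : Set G) := by
      rw [inv_inv, Subgroup.mem_centralizer_iff]
      intro t ht
      exact (hvc t ht).symm
    obtain ⟨n, hn, he⟩ := Sylow.conj_eq_normalizer_conj_of_mem_centralizer S u g⁻¹ hxc hyc
    rw [inv_inv] at he
    rw [he]
    have := hinvar n⁻¹ (N.inv_mem hn)
    rwa [inv_inv] at this
  · obtain ⟨x, -, y, -, hxy⟩ := hncomm
    exact ⟨x, y, hxy⟩

end main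

end Cfsg.Agent.Lib.Helper5.QDir
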