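import Mathlib

set_option autoImplicit false

/-!
A group of order 8 with a non-central involution is dihedral.
-/

namespace Cfsg.Agent.Lib.Helper5.D8R

open DihedralGroup

section D8

variable {G : Type*} [Group G]

lemma pow_mod_four (a : G) (ha : a ^ 4 = 1) (n : ℕ) : a ^ (n % 4) = a ^ n := by
  conv_rhs => rw [← Nat.div_add_mod n 4, pow_add, pow_mul, ha, one_pow, one_mul]

lemma pow_val_add (a : G) (ha : a ^ 4 = 1) (i j : ZMod 4) :
    a ^ (i + j).val = a ^ i.val * a ^ j.val := by
  rw [ZMod.val_add, pow_mod_four a ha, pow_add]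

lemma pow_val_sub (a : G) (ha : a ^ 4 = 1) (i j : ZMod 4) :
    a ^ (j - i).val = (a ^ i.val)⁻¹ * a ^ j.val := by
  have h := pow_val_add a ha (j - i) i
  rw [sub_add_cancel] at h
  have hc : a ^ (j - i).val * a ^ i.val = a ^ i.val * a ^ (j - i).val := by
    rw [← pow_add, ← pow_add, add_comm]
  rw [h, hc, inv_mul_cancel_left]

lemma pow_mul_t (a t : G) (ht : t * t = 1) (hta : t * a * t⁻¹ = a⁻¹) (n : ℕ) :
    a ^ n * t = t * (a ^ n)⁻¹ := by
  have htinv : t⁻¹ = t := inv_eq_of_mul_eq_one_right ht
  have h1 : t * a ^ n * t⁻¹ = (a ^ n)⁻¹ := by rw [← conj_pow, hta, inv_pow]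
  calc a ^ n * t = t * (t * a ^ n * t⁻¹) := by
        rw [htinv, ← mul_assoc, ← mul_assoc, ht, one_mul]
    _ = t * (a ^ n)⁻¹ := by rw [h1]

/-- the homomorphism from the dihedral group of order 8 -/
def dihedralHom (a t : G) (ha : a ^ 4 = 1) (ht : t * t = 1) (hta : t * a * t⁻¹ = a⁻¹) :
    DihedralGroup 4 →* G where
  toFun x := match x with
    | r i => a ^ i.val
    | sr i => t * a ^ i.val
  map_one' := by
    show a ^ (0 : ZMod 4).val = 1
    simp
  map_mul' x y := by
    rcases x with i | i <;> rcases y with j | j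
    · show a ^ (i + j).val = a ^ i.val * a ^ j.val
      exact pow_val_add a ha i j
    · show t * a ^ (j - i).val = a ^ i.val * (t * a ^ j.val)
      rw [← mul_assoc, pow_mul_t a t ht hta, mul_assoc, pow_val_sub a ha]
    · show t * a ^ (i + j).val = t * a ^ i.val * a ^ j.val
      rw [pow_val_add a ha, mul_assoc]
    · show a ^ (j - i).val = t * a ^ i.val * (t * a ^ j.val)
      rw [pow_val_sub a ha]
      symm
      calc t * a ^ i.val * (t * a ^ j.val) = t * (a ^ i.val * t) * a ^ j.val := by group
        _ = t * (t * (a ^ i.val)⁻¹) * a ^ j.val := by rw [pow_mul_t a t ht hta]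
        _ = (t * t) * ((a ^ i.val)⁻¹ * a ^ j.val) := by group
        _ = (a ^ i.val)⁻¹ * a ^ j.val := by rw [ht, one_mul]

lemma dihedralHom_r (a t : G) (ha : a ^ 4 = 1) (ht : t * t = 1) (hta : t * a * t⁻¹ = a⁻¹)
    (i : ZMod 4) : dihedralHom a t ha ht hta (r i) = a ^ i.val := rfl

lemma dihedralHom_sr (a t : G) (ha : a ^ 4 = 1) (ht : t * t = 1) (hta : t * a * t⁻¹ = a⁻¹)
    (i : ZMod 4) : dihedralHom a t ha ht hta (sr i) = t * a ^ i.val := rfl

/-- a group of order 8 with a non-central involution is dihedral -/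
theorem dihedral_of_card_eight (hcard : Nat.card G = 8) (t g : G) (ht : t * t = 1)
    (hgt : g * t ≠ t * g) : Nonempty (DihedralGroup 4 ≃* G) := by
  classical
  have hfin : Finite G := Nat.finite_of_card_ne_zero (by omega)
  have htinv : t⁻¹ = t := inv_eq_of_mul_eq_one_right ht
  -- an element of order four
  have hex : ∃ a : G, orderOf a = 4 := by
    by_contra hno
    push Not at hno
    have hdiv : ∀ x : G, orderOf x = 1 ∨ orderOf x = 2 ∨ orderOf x = 8 := by
      intro x
      have h := orderOf_dvd_natCard x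
      rw [hcard] at h
      have h1 : orderOf x ∈ Nat.divisors 8 := Nat.mem_divisors.2 ⟨h, by norm_num⟩
      have hd : Nat.divisors 8 = {1, 2, 4, 8} := by decide
      rw [hd] at h1
      simp only [Finset.mem_insert, Finset.mem_singleton] at h1
      rcases h1 with h1 | h1 | h1 | h1
      · exact Or.inl h1
      · exact Or.inr (Or.inl h1)
      · exact absurd h1 (hno x)
      · exact Or.inr (Or.inr h1)
    have h8 : ∀ x : G, orderOf x ≠ 8 := by
      intro x hx
      have hc : IsCyclic G := isCyclic_of_orderOf_eq_card x (by rw [hx, hcard])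
      obtain ⟨c, hc'⟩ := hc.exists_generator
      obtain ⟨i, hi⟩ := Subgroup.mem_zpowers_iff.1 (hc' g)
      obtain ⟨j, hj⟩ := Subgroup.mem_zpowers_iff.1 (hc' t)
      apply hgt
      rw [← hi, ← hj, ← zpow_add, ← zpow_add, add_comm]
    have hsq : ∀ x : G, x * x = 1 := by
      intro x
      have : orderOf x ∣ 2 := by
        rcases hdiv x with h | h | h
        · rw [h]; norm_num
        · rw [h]
        · exact absurd h (h8 x)
      have := orderOf_dvd_iff_pow_eq_one.1 this
      rw [← pow_two]; exact this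
    apply hgt
    have h1 := hsq (g * t)
    have h2 : g * t = (g * t)⁻¹ := (inv_eq_of_mul_eq_one_right h1).symm
    rw [h2, mul_inv_rev, htinv, inv_eq_of_mul_eq_one_right (hsq g)]
  obtain ⟨a, ha⟩ := hex
  have ha4 : a ^ 4 = 1 := by rw [← ha]; exact pow_orderOf_eq_one a
  have ha2 : a ^ 2 ≠ 1 := pow_ne_one_of_lt_orderOf (by norm_num) (by rw [ha]; norm_num)
  have ha1 : a ≠ 1 := by
    intro h
    rw [h, orderOf_one] at ha
    omega
  set A := Subgroup.zpowers a with hA
  have hAcard : Nat.card A = 4 := by rw [Nat.card_zpowers, ha]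
  have hAidx : A.index = 2 := by
    have := A.card_mul_index
    rw [hAcard, hcard] at this
    omega
  have hAn : A.Normal := Subgroup.normal_of_index_eq_two hAidx
  have memA : ∀ x, x ∈ A → x = 1 ∨ x = a ∨ x = a ^ 2 ∨ x = a ^ 3 := by
    intro x hx
    rw [hA, mem_zpowers_iff_mem_range_orderOf, ha] at hx
    simp only [Finset.mem_image, Finset.mem_range] at hx
    obtain ⟨k, hk, rfl⟩ := hx
    interval_cases k <;> simp
  have hconj : ∀ x : G, x * a * x⁻¹ = a ∨ x * a * x⁻¹ = a ^ 3 := by
    intro x
    have h1 : x * a * x⁻¹ ∈ A := hAn.conj_mem a (Subgroup.mem_zpowers a) x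
    rcases memA _ h1 with h | h | h | h
    · exfalso
      apply ha1
      have : a = x⁻¹ * (x * a * x⁻¹) * x := by group
      rw [this, h]; group
    · exact Or.inl h
    · exfalso
      apply ha2
      have h2 : (x * a * x⁻¹) ^ 2 = 1 := by rw [h, ← pow_mul, ha4]
      rw [conj_pow] at h2
      have : a ^ 2 = x⁻¹ * (x * a ^ 2 * x⁻¹) * x := by group
      rw [this, h2]; group
    · exact Or.inr h
  have hz : ∀ x : G, x * a ^ 2 * x⁻¹ = a ^ 2 := by
    intro x
    rw [← conj_pow]
    rcases hconj x with h | h
    · rw [h]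
    · rw [h, ← pow_mul]
      show a ^ 6 = a ^ 2
      rw [show 6 = 4 + 2 from rfl, pow_add, ha4, one_mul]
  have htA : t ∉ A := by
    intro h
    rcases memA t h with h | h | h | h
    · apply hgt; rw [h, mul_one, one_mul]
    · apply ha2; rw [pow_two, ← h]; exact ht
    · apply hgt
      have := hz g
      rw [← h] at this
      calc g * t = (g * t * g⁻¹) * g := by group
        _ = t * g := by rw [this]
    · apply ha2
      have h6 : a ^ 6 = 1 := by
        have : a ^ 6 = a ^ 3 * a ^ 3 := by rw [← pow_add]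
        rw [this, ← h]; exact ht
      rw [show 6 = 4 + 2 from rfl, pow_add, ha4, one_mul] at h6
      exact h6
  have hta : t * a * t⁻¹ = a⁻¹ := by
    rcases hconj t with h | h
    · exfalso
      have hcomm : t * a = a * t := by
        calc t * a = (t * a * t⁻¹) * t := by group
          _ = a * t := by rw [h]
      have hcommA : ∀ y ∈ A, y * t = t * y := by
        intro y hy
        obtain ⟨k, rfl⟩ := Subgroup.mem_zpowers_iff.1 hy
        have : Commute t a := hcomm
        exact (this.zpow_right k).eq.symm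
      apply hgt
      by_cases hgA : g ∈ A
      · exact hcommA g hgA
      · have h1 : t⁻¹ * g ∈ A := by
          rw [Subgroup.mul_mem_iff_of_index_two hAidx, inv_mem_iff]
          tauto
        have h2 := hcommA _ h1
        have : g = t * (t⁻¹ * g) := by group
        rw [this, mul_assoc, h2]
    · rw [h]
      apply eq_inv_of_mul_eq_one_left
      rw [← pow_succ, ha4]
  -- the isomorphism
  set f := dihedralHom a t ha4 ht hta with hf
  have hinj : Function.Injective f := by
    rw [injective_iff_map_eq_one]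
    intro x hx
    rcases x with i | i
    · rw [hf, dihedralHom_r] at hx
      have h1 := orderOf_dvd_of_pow_eq_one hx
      rw [ha] at h1
      have h2 : i.val < 4 := ZMod.val_lt i
      have h3 : i.val = 0 := by
        rcases h1 with ⟨c, hc⟩
        omega
      have h4 : i = 0 := by
        rw [← ZMod.natCast_zmod_val i, h3]; rfl
      rw [h4]; rfl
    · exfalso
      rw [hf, dihedralHom_sr] at hx
      apply htA
      have : t = (a ^ i.val)⁻¹ := eq_inv_of_mul_eq_one_left hx
      rw [this]
      exact inv_mem (Subgroup.pow_mem _ (Subgroup.mem_zpowers a) _)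
  have hbij : Function.Bijective f := by
    rw [Nat.bijective_iff_injective_and_card]
    exact ⟨hinj, by rw [DihedralGroup.nat_card, hcard]⟩
  exact ⟨MulEquiv.ofBijective f hbij⟩

end D8

end Cfsg.Agent.Lib.Helper5.D8R
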