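import Mathlib

set_option autoImplicit false

/-!
Groups in which squares and commutators lie in `{1, z}` for a central involution `z`:
a maximal elementary abelian subgroup `T ∋ z` has index at most four in its centralizer.
-/

namespace Cfsg.Agent.Lib.Helper5.AntiComm

variable {G : Type*} [Group G]

/-- covering a finite subgroup by four cosets -/
theorem card_le_four_mul (C T : Subgroup G) [Finite C] (x y : G)
    (h : ∀ w ∈ C, w ∈ T ∨ x * w ∈ T ∨ y * w ∈ T ∨ x * y * w ∈ T) (hTC : T ≤ C) :
    Nat.card C ≤ 4 * Nat.card T := by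
  classical
  have hTfin : Finite T := Finite.of_injective (Subgroup.inclusion hTC) (Subgroup.inclusion_injective hTC)
  have hsub : (C : Set G) ⊆ (T : Set G) ∪ (fun t => x⁻¹ * t) '' (T : Set G) ∪
      (fun t => y⁻¹ * t) '' (T : Set G) ∪ (fun t => (x * y)⁻¹ * t) '' (T : Set G) := by
    intro w hw
    rcases h w hw with h1 | h1 | h1 | h1
    · exact Or.inl (Or.inl (Or.inl h1))
    · exact Or.inl (Or.inl (Or.inr ⟨x * w, h1, by group⟩))
    · exact Or.inl (Or.inr ⟨y * w, h1, by group⟩)
    · exact Or.inr ⟨x * y * w, h1, by group⟩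
  have hTf : (T : Set G).Finite := Set.toFinite _
  have h1 := Set.ncard_le_ncard hsub (by
    refine Set.Finite.union (Set.Finite.union (Set.Finite.union hTf ?_) ?_) ?_ <;>
      exact Set.Finite.image _ hTf)
  have hi : ∀ g : G, ((fun t => g * t) '' (T : Set G)).ncard ≤ (T : Set G).ncard :=
    fun g => Set.ncard_image_le hTf
  have h2 := Set.ncard_union_le ((T : Set G) ∪ (fun t => x⁻¹ * t) '' (T : Set G) ∪
      (fun t => y⁻¹ * t) '' (T : Set G)) ((fun t => (x * y)⁻¹ * t) '' (T : Set G))
  have h3 := Set.ncard_union_le ((T : Set G) ∪ (fun t => x⁻¹ * t) '' (T : Set G))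
      ((fun t => y⁻¹ * t) '' (T : Set G))
  have h4 := Set.ncard_union_le (T : Set G) ((fun t => x⁻¹ * t) '' (T : Set G))
  have h5 := hi x⁻¹
  have h6 := hi y⁻¹
  have h7 := hi (x * y)⁻¹
  have hC : (C : Set G).ncard = Nat.card C := rfl
  have hT : (T : Set G).ncard = Nat.card T := rfl
  rw [hC] at h1
  rw [hT] at h4 h5 h6 h7
  omega

/-- The key bound: if every element of `C` outside `T` squares to the central involution `z ≠ 1`,
then `|C| ≤ 4 |T|`. -/
theorem card_le_of_anticomm (C T : Subgroup G) [Finite C] (z : G) (hz1 : z ≠ 1)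
    (hzc : ∀ g : G, g * z = z * g) (hzz : z * z = 1) (hTC : T ≤ C)
    (hsq : ∀ x ∈ C, x ∉ T → x * x = z) :
    Nat.card C ≤ 4 * Nat.card T := by
  classical
  by_contra hcon
  push Not at hcon
  -- anticommutation
  have hanti : ∀ x ∈ C, ∀ y ∈ C, x ∉ T → y ∉ T → x * y ∉ T → x * y = z * (y * x) := by
    intro x hx y hy hxT hyT hxyT
    have h1 := hsq x hx hxT
    have h2 := hsq y hy hyT
    have h3 := hsq (x * y) (C.mul_mem hx hy) hxyT
    -- x y x y = z, so y x = x⁻¹ z y⁻¹
    have hxi : x⁻¹ = z * x := by
      rw [inv_eq_iff_mul_eq_one, ← mul_assoc, hzc x, mul_assoc, h1, hzz]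
    have hyi : y⁻¹ = z * y := by
      rw [inv_eq_iff_mul_eq_one, ← mul_assoc, hzc y, mul_assoc, h2, hzz]
    have h4 : y * x = x⁻¹ * z * y⁻¹ := by
      rw [← h3]; group
    rw [h4, hxi, hyi]
    -- z * (z * x * z * (z * y)) = x * y
    have e1 : z * x * z * (z * y) = z * x * (z * z) * y := by group
    rw [e1, hzz, mul_one, ← mul_assoc, ← mul_assoc, hzz, one_mul]
  -- pick x
  have hx : ∃ x ∈ C, x ∉ T := by
    by_contra h
    push Not at h
    have := card_le_four_mul C T 1 1 (fun w hw => Or.inl (h w hw)) hTC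
    omega
  obtain ⟨x, hxC, hxT⟩ := hx
  have hy : ∃ y ∈ C, y ∉ T ∧ x * y ∉ T := by
    by_contra h
    push Not at h
    have := card_le_four_mul C T x 1 (fun w hw => by
      by_cases hw1 : w ∈ T
      · exact Or.inl hw1
      · exact Or.inr (Or.inl (h w hw hw1))) hTC
    omega
  obtain ⟨y, hyC, hyT, hxyT⟩ := hy
  have hw : ∃ w ∈ C, w ∉ T ∧ x * w ∉ T ∧ y * w ∉ T ∧ x * y * w ∉ T := by
    by_contra h
    push Not at h
    have := card_le_four_mul C T x y (fun w hw => by
      by_cases hw1 : w ∈ T
      · exact Or.inl hw1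
      by_cases hw2 : x * w ∈ T
      · exact Or.inr (Or.inl hw2)
      by_cases hw3 : y * w ∈ T
      · exact Or.inr (Or.inr (Or.inl hw3))
      · exact Or.inr (Or.inr (Or.inr (h w hw hw1 hw2 hw3)))) hTC
    omega
  obtain ⟨w, hwC, hwT, hxwT, hywT, hxywT⟩ := hw
  have a1 := hanti x hxC y hyC hxT hyT hxyT
  have a2 := hanti x hxC w hwC hxT hwT hxwT
  have a3 := hanti x hxC (y * w) (C.mul_mem hyC hwC) hxT hywT (by rwa [← mul_assoc])
  -- x (y w) = z (y w) x and x y w = z y x w = z y z w x = y w x
  have e1 : x * (y * w) = y * w * x := by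
    calc x * (y * w) = (x * y) * w := by group
      _ = z * (y * x) * w := by rw [a1]
      _ = z * y * (x * w) := by group
      _ = z * y * (z * (w * x)) := by rw [a2]
      _ = z * (y * z) * (w * x) := by group
      _ = z * (z * y) * (w * x) := by rw [hzc y]
      _ = (z * z) * y * (w * x) := by group
      _ = y * w * x := by rw [hzz]; group
  rw [e1] at a3
  apply hz1
  have : y * w * x = z * (y * w * x) := a3
  have h := mul_right_cancel (a := 1) (b := y * w * x) (c := z) (by rw [one_mul]; exact this)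
  exact h.symm

/-- closure of commuting involutions is commutative of exponent two -/
theorem closure_comm_sq (S : Set G) (hcomm : ∀ a ∈ S, ∀ b ∈ S, a * b = b * a)
    (hsq : ∀ a ∈ S, a * a = 1) :
    (∀ a ∈ Subgroup.closure S, ∀ b ∈ Subgroup.closure S, a * b = b * a) ∧
    (∀ a ∈ Subgroup.closure S, a * a = 1) := by
  have hc : ∀ a ∈ Subgroup.closure S, ∀ b ∈ Subgroup.closure S, a * b = b * a := by
    intro a ha b hb
    have hb' : b ∈ Subgroup.centralizer (Subgroup.closure S : Set G) := by
      have : Subgroup.closure S ≤ Subgroup.centralizer (Subgroup.closure S : Set G) := by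
        rw [Subgroup.closure_le]
        intro s hs
        rw [SetLike.mem_coe, Subgroup.mem_centralizer_iff]
        intro t ht
        have ht' : t ∈ Subgroup.centralizer ({s} : Set G) := by
          have : Subgroup.closure S ≤ Subgroup.centralizer ({s} : Set G) := by
            rw [Subgroup.closure_le]
            intro u hu
            rw [SetLike.mem_coe, Subgroup.mem_centralizer_iff]
            intro v hv
            rw [Set.mem_singleton_iff] at hv
            subst hv
            exact hcomm v hs u hu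
          exact this ht
        rw [Subgroup.mem_centralizer_iff] at ht'
        exact (ht' s rfl).symm
      exact this hb
    rw [Subgroup.mem_centralizer_iff] at hb'
    exact hb' a ha
  refine ⟨hc, ?_⟩
  intro a ha
  induction ha using Subgroup.closure_induction with
  | mem x hx => exact hsq x hx
  | one => simp
  | mul x y hx hy ihx ihy =>
    have := hc x hx y hy
    calc x * y * (x * y) = x * (y * x) * y := by group
      _ = x * (x * y) * y := by rw [this]
      _ = (x * x) * (y * y) := by group
      _ = 1 := by rw [ihx, ihy, one_mul]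
  | inv x hx ih =>
    have : x⁻¹ = x := inv_eq_of_mul_eq_one_left ih
    rw [this, ih]

/-- existence of a maximal elementary abelian subgroup containing `z` -/
theorem exists_maximal_elem [Finite G] (E : Subgroup G) (z : G) (hzE : z ∈ E) (hzz : z * z = 1) :
    ∃ T : Subgroup G, T ≤ E ∧ z ∈ T ∧ (∀ a ∈ T, ∀ b ∈ T, a * b = b * a) ∧ (∀ a ∈ T, a * a = 1) ∧
      ∀ x ∈ E, x * x = 1 → (∀ a ∈ T, x * a = a * x) → x ∈ T := by
  classical
  let 𝒯 : Set (Subgroup G) := {T | T ≤ E ∧ z ∈ T ∧ (∀ a ∈ T, ∀ b ∈ T, a * b = b * a) ∧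
    (∀ a ∈ T, a * a = 1)}
  have hne : 𝒯.Nonempty := by
    refine ⟨Subgroup.closure {z}, ?_, Subgroup.subset_closure rfl, ?_⟩
    · rw [Subgroup.closure_le]
      intro u hu
      rw [Set.mem_singleton_iff] at hu
      subst hu
      exact hzE
    · apply closure_comm_sq
      · intro a ha b hb
        rw [Set.mem_singleton_iff] at ha hb
        rw [ha, hb]
      · intro a ha
        rw [Set.mem_singleton_iff] at ha
        rw [ha, hzz]
  obtain ⟨T, hT, hmax⟩ := (Set.toFinite 𝒯).exists_maximal hne
  obtain ⟨hTE, hzT, hTc, hT2⟩ := hT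
  refine ⟨T, hTE, hzT, hTc, hT2, ?_⟩
  intro x hxE hxx hxT
  let T' := Subgroup.closure ((T : Set G) ∪ {x})
  have hT' : T' ∈ 𝒯 := by
    refine ⟨?_, Subgroup.subset_closure (Or.inl hzT), ?_⟩
    · rw [Subgroup.closure_le]
      rintro u (hu | hu)
      · exact hTE hu
      · rw [Set.mem_singleton_iff] at hu
        subst hu
        exact hxE
    · apply closure_comm_sq
      · rintro a (ha | ha) b (hb | hb)
        · exact hTc a ha b hb
        · rw [Set.mem_singleton_iff] at hb; subst hb; exact (hxT a ha).symm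
        · rw [Set.mem_singleton_iff] at ha; subst ha; exact hxT b hb
        · rw [Set.mem_singleton_iff] at ha hb; rw [ha, hb]
      · rintro a (ha | ha)
        · exact hT2 a ha
        · rw [Set.mem_singleton_iff] at ha; subst ha; exact hxx
  have hle : T ≤ T' := by
    intro t ht
    exact Subgroup.subset_closure (Or.inl ht)
  have := hmax hT' hle
  exact this (Subgroup.subset_closure (Or.inr rfl))

end Cfsg.Agent.Lib.Helper5.AntiComm
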