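import Cfsg.Agent.Lib.Helper7.AutPM.GroupLemmas2
import Mathlib

/-!
# Recognising `D₈ × Z_f` (helper5)

`O` is a finite group of order at most `8 f` with a homomorphism `ρ` to some group, an embedded
dihedral group `e : D₈ → O` inside the kernel of `ρ`, normalised by an element `y` with `y ^ f = 1`
and `ρ y` of order `f`; `y` commutes with `e t` for a non-central involution `t`.  Then
`O ≃ D₈ × Z_f`: the automorphism of `D₈` induced by `y` is trivial or conjugation by `t`.
-/

set_option autoImplicit false

namespace Cfsg.Agent.Lib.Helper5.Grp.DihProd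

open DihedralGroup Cfsg.Agent.Lib.H7AutPM

theorem d8_conj_r : ∀ t : DihedralGroup 4, t * t = 1 → t ≠ 1 → t ≠ r 2 →
    t * r 1 * t⁻¹ = (r 1)⁻¹ := by
  decide

theorem d8_order_four : ∀ x : DihedralGroup 4, x * x ≠ 1 → x = r 1 ∨ x = (r 1)⁻¹ := by
  decide

theorem d8_gen : ∀ t : DihedralGroup 4, t * r 1 * t⁻¹ = (r 1)⁻¹ →
    ∀ d : DihedralGroup 4, ∃ i : Fin 4, ∃ j : Fin 2, d = r 1 ^ (i : ℕ) * t ^ (j : ℕ) := by
  decide

theorem d8_r_sq_ne : (r 1 : DihedralGroup 4) * r 1 ≠ 1 := by decide

theorem d8_r_sq : (r 1 : DihedralGroup 4) * r 1 = r 2 := by decide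

/-- a non-central involution of `D₈` from an index two subgroup -/
theorem d8_conj_of_index_two {P : Type*} [Group P] (φ : P →* DihedralGroup 4)
    (hφ : Function.Surjective φ) (N : Subgroup P) (hN : N.index = 2) (hker : φ.ker ≤ N) (a : P)
    (haN : a ∉ N) (ha2 : a * a ∈ φ.ker) :
    φ a * φ a = 1 ∧ φ a * r 1 * (φ a)⁻¹ = (r 1)⁻¹ := by
  have h1 : φ a * φ a = 1 := by rw [← map_mul]; exact ha2
  refine ⟨h1, d8_conj_r _ h1 ?_ ?_⟩
  · intro h
    exact haN (hker h)
  · intro h
    obtain ⟨b, hb⟩ := hφ (r 1)
    have h2 : (b * b)⁻¹ * a ∈ φ.ker := by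
      rw [MonoidHom.mem_ker, map_mul, map_inv, map_mul, hb, h, d8_r_sq, inv_mul_cancel]
    have h3 : b * b ∈ N := (Subgroup.mul_mem_iff_of_index_two hN).2 Iff.rfl
    have h4 : a = b * b * ((b * b)⁻¹ * a) := by group
    rw [h4] at haN
    exact haN (N.mul_mem h3 (hker h2))

variable {O C : Type*} [Group O] [Group C]

theorem orderOf_eq_of_pow {w : O} (ρ : O →* C) {f : ℕ} (hw : w ^ f = 1)
    (hρ : orderOf (ρ w) = f) : orderOf w = f := by
  apply Nat.dvd_antisymm (orderOf_dvd_of_pow_eq_one hw)
  rw [← hρ]
  exact orderOf_map_dvd ρ w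

/-- **recognition of `D₈ × Z_f`** -/
theorem equiv_dihedral_prod [Finite O] (ρ : O →* C) (e : DihedralGroup 4 →* O)
    (he : Function.Injective e) (hker : ∀ d, ρ (e d) = 1) (y : O) {f : ℕ} (hyf : y ^ f = 1)
    (hρy : orderOf (ρ y) = f) (hnorm : ∀ d, ∃ d', y * e d * y⁻¹ = e d')
    (t : DihedralGroup 4) (ht2 : t * t = 1) (htr : t * r 1 * t⁻¹ = (r 1)⁻¹)
    (hyt : Commute y (e t)) (hcard : Nat.card O ≤ 8 * f) :
    Nonempty (O ≃* DihedralGroup 4 × Multiplicative (ZMod f)) := by
  -- the image of the rotation
  obtain ⟨r', hr'⟩ := hnorm (r 1)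
  have hr'2 : r' * r' ≠ 1 := by
    intro h
    have h1 : e (r' * r') = y * e (r 1 * r 1) * y⁻¹ := by
      rw [map_mul, ← hr', map_mul]
      group
    rw [h, map_one] at h1
    have h2 : e (r 1 * r 1) = 1 := by
      have := congrArg (fun z => y⁻¹ * z * y) h1
      simp only [mul_one, inv_mul_cancel] at this
      rw [this]
      group
    exact d8_r_sq_ne (he (by rw [h2, map_one]))
  -- the generation
  have hgen := d8_gen t htr
  have hcommAll : ∀ w : O, Commute (e (r 1)) w → Commute (e t) w → ∀ d, Commute (e d) w := by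
    intro w h1 h2 d
    obtain ⟨i, j, rfl⟩ := hgen d
    rw [map_mul, map_pow, map_pow]
    exact (h1.pow_left _).mul_left (h2.pow_left _)
  -- the central element
  have key : ∃ w : O, (∀ d, Commute (e d) w) ∧ w ^ f = 1 ∧ ρ w = ρ y := by
    rcases d8_order_four r' hr'2 with h | h
    · refine ⟨y, ?_, hyf, rfl⟩
      apply hcommAll
      · rw [h] at hr'
        show e (r 1) * y = y * e (r 1)
        have := congrArg (fun z => z * y) hr'
        simp only [inv_mul_cancel_right] at this
        exact this.symm
      · exact hyt.symm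
    · rw [h, map_inv] at hr'
      -- `f` is even
      have hy2 : Commute (y ^ 2) (e (r 1)) := by
        show y ^ 2 * e (r 1) = e (r 1) * y ^ 2
        have h1 : y * e (r 1) = (e (r 1))⁻¹ * y := by
          have := congrArg (fun z => z * y) hr'
          simp only [inv_mul_cancel_right] at this
          exact this
        have h2 : y * (e (r 1))⁻¹ = e (r 1) * y := by
          have h3 : y * (e (r 1))⁻¹ * y⁻¹ = e (r 1) := by
            have := congrArg (fun z => z⁻¹) hr'
            simp only [_root_.mul_inv_rev, inv_inv] at this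
            rw [← mul_assoc] at this
            exact this
          have := congrArg (fun z => z * y) h3
          simp only [inv_mul_cancel_right] at this
          exact this
        rw [pow_two, mul_assoc, h1, ← mul_assoc, h2, mul_assoc]
      have hfe : Even f := by
        rcases Nat.even_or_odd f with h0 | h0
        · exact h0
        · exfalso
          obtain ⟨k, hk⟩ := h0
          have h1 : (y ^ 2) ^ k * y = 1 := by rw [← pow_mul, ← pow_succ, ← hk, hyf]
          have h2 : y = ((y ^ 2) ^ k)⁻¹ := eq_inv_of_mul_eq_one_right h1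
          have h3 : Commute y (e (r 1)) := by
            rw [h2]
            exact (hy2.pow_left k).inv_left
          have h4 : y * e (r 1) * y⁻¹ = e (r 1) := by
            rw [h3.eq, mul_inv_cancel_right]
          rw [h4] at hr'
          have h5 : e (r 1 * r 1) = 1 := by
            rw [map_mul]
            nth_rewrite 1 [hr']
            rw [inv_mul_cancel]
          exact d8_r_sq_ne (he (by rw [h5, map_one]))
      obtain ⟨k, hk⟩ := hfe
      refine ⟨e t * y, ?_, ?_, ?_⟩
      · apply hcommAll
        · show e (r 1) * (e t * y) = e t * y * e (r 1)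
          have h1 : y * e (r 1) = (e (r 1))⁻¹ * y := by
            have := congrArg (fun z => z * y) hr'
            simp only [inv_mul_cancel_right] at this
            exact this
          have h2 : e t * (e (r 1))⁻¹ = e (r 1) * e t := by
            rw [← map_inv, ← map_mul, ← map_mul]
            congr 1
            have h3 : t * r 1 = (r 1)⁻¹ * t := by
              have := congrArg (fun z => z * t) htr
              simp only [inv_mul_cancel_right] at this
              exact this
            have h4 : r 1 * t * r 1 = t := by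
              rw [mul_assoc, h3, mul_inv_cancel_left]
            have h5 : t * (r 1)⁻¹ = r 1 * t := by
              nth_rewrite 1 [← h4]
              rw [mul_inv_cancel_right]
            exact h5
          rw [mul_assoc (e t), h1, ← mul_assoc (e t), h2, mul_assoc]
        · show e t * (e t * y) = e t * y * e t
          rw [mul_assoc (e t) y, hyt.eq]
      · have hc : Commute (e t) y := hyt.symm
        rw [hc.mul_pow, hyf, mul_one, hk, ← two_mul, pow_mul, pow_two, ← map_mul, ht2, map_one,
          one_pow]
      · rw [map_mul, hker, one_mul]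
  obtain ⟨w, hw1, hw2, hw3⟩ := key
  have hρw : orderOf (ρ w) = f := by rw [hw3, hρy]
  exact equiv_prod_zmod ρ e he hker w hw1 (orderOf_eq_of_pow ρ hw2 hρw) hρw
    (by rw [DihedralGroup.nat_card]; omega)

end Cfsg.Agent.Lib.Helper5.Grp.DihProd
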