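import Mathlib

set_option autoImplicit false

/-!
# Classes of involutions with pairwise products of `p`-power order

Group-theoretic part of: if `G = ⟨D⟩` for a class `D` of involutions whose pairwise products are
`p`-elements (`p` odd) then `G'` is a `p`-group.  The `Z*`-theorem enters as a hypothesis.
-/

namespace Cfsg.Agent.Lib.Helper5.OddTr

variable {G : Type*} [Group G]

/-- Elements of `Q` inverted by `d`. -/
def invSet (d : G) (Q : Subgroup G) : Set G := {x | x ∈ Q ∧ d * x * d⁻¹ = x⁻¹}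

/-- `C_Q(d)`. -/
def cen (d : G) (Q : Subgroup G) : Subgroup G := Q ⊓ Subgroup.centralizer {d}

theorem invSet_mono (d : G) {Q R : Subgroup G} (h : Q ≤ R) : invSet d Q ⊆ invSet d R :=
  fun _ hx => ⟨h hx.1, hx.2⟩

theorem cen_mono (d : G) {Q R : Subgroup G} (h : Q ≤ R) : cen d Q ≤ cen d R :=
  inf_le_inf_right _ h

theorem half_exists {d x : G} (hx : Odd (orderOf x)) (hinv : d * x * d⁻¹ = x⁻¹) :
    ∃ m ∈ Subgroup.zpowers x, m * m = x ∧ d * m * d⁻¹ = m⁻¹ := by
  obtain ⟨k, hk⟩ := hx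
  refine ⟨x ^ (k + 1), Subgroup.npow_mem_zpowers x _, ?_, ?_⟩
  · rw [← pow_add]
    have : k + 1 + (k + 1) = orderOf x + 1 := by omega
    rw [this, pow_succ, pow_orderOf_eq_one, one_mul]
  · rw [← conj_pow, hinv, inv_pow]

theorem card_inverted [Finite G] (d : G) (hd : d * d = 1) (Q : Subgroup G)
    (hodd : Odd (Nat.card Q)) (hQd : ∀ x ∈ Q, d * x * d⁻¹ ∈ Q) :
    (invSet d Q).ncard * Nat.card ↥(cen d Q) = Nat.card Q := by
  classical
  have hd' : d⁻¹ = d := inv_eq_of_mul_eq_one_right hd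
  have hdd : ∀ y : G, d * (d * y) = y := fun y => by rw [← mul_assoc, hd, one_mul]
  set C' : Subgroup ↥Q := (cen d Q).subgroupOf Q with hC'
  -- the map on cosets
  have hmem : ∀ x : ↥Q, (x : G) * d * (x : G)⁻¹ * d⁻¹ ∈ invSet d Q := by
    intro x
    refine ⟨?_, ?_⟩
    · have h1 : d * (x : G)⁻¹ * d⁻¹ ∈ Q := hQd _ (Q.inv_mem x.2)
      have : (x : G) * d * (x : G)⁻¹ * d⁻¹ = (x : G) * (d * (x : G)⁻¹ * d⁻¹) := by group
      rw [this]
      exact Q.mul_mem x.2 h1
    · rw [hd']
      simp only [mul_inv_rev, inv_inv, hd', mul_assoc, hd, mul_one]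
  let φ : (↥Q ⧸ C') → ↥(invSet d Q) := fun c =>
    Quotient.liftOn' c (fun x => (⟨(x : G) * d * (x : G)⁻¹ * d⁻¹, hmem x⟩ : ↥(invSet d Q)))
      (by
        intro x y hxy
        rw [QuotientGroup.leftRel_apply] at hxy
        have hc : (x : G)⁻¹ * (y : G) ∈ Subgroup.centralizer {d} := by
          have := hxy
          rw [hC', Subgroup.mem_subgroupOf] at this
          exact this.2
        rw [Subgroup.mem_centralizer_iff] at hc
        have hc' := hc d rfl
        apply Subtype.ext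
        show (x : G) * d * (x : G)⁻¹ * d⁻¹ = (y : G) * d * (y : G)⁻¹ * d⁻¹
        have : (y : G) * d * (y : G)⁻¹ = (x : G) * d * (x : G)⁻¹ := by
          have h2 : (y : G) = (x : G) * ((x : G)⁻¹ * (y : G)) := by group
          rw [h2]
          set c := (x : G)⁻¹ * (y : G)
          have : (x : G) * c * d * ((x : G) * c)⁻¹ = (x : G) * (c * d) * c⁻¹ * (x : G)⁻¹ := by group
          rw [this, ← hc']
          group
        rw [this])
  have hφinj : Function.Injective φ := by
    intro a b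
    induction a using Quotient.inductionOn' with | _ x => ?_
    induction b using Quotient.inductionOn' with | _ y => ?_
    intro h
    apply Quotient.sound'
    rw [QuotientGroup.leftRel_apply, hC', Subgroup.mem_subgroupOf]
    have h1 : (x : G) * d * (x : G)⁻¹ * d⁻¹ = (y : G) * d * (y : G)⁻¹ * d⁻¹ :=
      congrArg Subtype.val h
    have h2 : (x : G) * d * (x : G)⁻¹ = (y : G) * d * (y : G)⁻¹ := mul_right_cancel h1
    show ((x⁻¹ * y : ↥Q) : G) ∈ Q ⊓ Subgroup.centralizer {d}
    rw [Subgroup.mem_inf]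
    refine ⟨(x⁻¹ * y).2, ?_⟩
    rw [Subgroup.mem_centralizer_iff]
    intro e he
    rw [Set.mem_singleton_iff] at he
    subst he
    show e * ((x⁻¹ * y : ↥Q) : G) = ((x⁻¹ * y : ↥Q) : G) * e
    rw [Subgroup.coe_mul, Subgroup.coe_inv]
    have : e * ((x : G)⁻¹ * (y : G)) = (x : G)⁻¹ * ((x : G) * e * (x : G)⁻¹) * (y : G) := by group
    rw [this, h2]
    group
  have hφsurj : Function.Surjective φ := by
    rintro ⟨n, hnQ, hninv⟩
    have hnodd : Odd (orderOf n) := by
      have : orderOf n ∣ Nat.card Q := by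
        have := orderOf_dvd_natCard (⟨n, hnQ⟩ : ↥Q)
        rwa [Subgroup.orderOf_mk] at this
      exact hodd.of_dvd_nat this
    obtain ⟨m, hmz, hmm, hminv⟩ := half_exists hnodd hninv
    have hmQ : m ∈ Q := (Subgroup.zpowers_le.mpr hnQ) hmz
    refine ⟨Quotient.mk'' ⟨m, hmQ⟩, ?_⟩
    apply Subtype.ext
    show m * d * m⁻¹ * d⁻¹ = n
    have : m * d * m⁻¹ * d⁻¹ = m * (d * m * d⁻¹)⁻¹ := by group
    rw [this, hminv, inv_inv, hmm]
  have h1 : Nat.card (↥Q ⧸ C') = (invSet d Q).ncard := by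
    rw [← Nat.card_coe_set_eq]
    exact Nat.card_congr (Equiv.ofBijective φ ⟨hφinj, hφsurj⟩)
  have h2 : Nat.card ↥C' = Nat.card ↥(cen d Q) :=
    Nat.card_congr (Subgroup.subgroupOfEquivOfLe (inf_le_left : cen d Q ≤ Q)).toEquiv
  rw [← h1, ← h2]
  exact (Subgroup.card_eq_card_quotient_mul_card_subgroup C').symm


/-- A `d`-invariant Sylow `q`-subgroup of the normal subgroup `N` of odd order (`d² = 1`). -/
theorem exists_invariant_sylow [Finite G] (d : G) (hd : d * d = 1) (N : Subgroup G) [hN : N.Normal]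
    (hNodd : Odd (Nat.card N)) (q : ℕ) [Fact q.Prime] :
    ∃ Q : Subgroup G, Q ≤ N ∧ Nat.card Q = q ^ (Nat.card N).factorization q ∧
      ∀ x ∈ Q, d * x * d⁻¹ ∈ Q := by
  classical
  let _ : Fintype (Sylow q ↥N) := Fintype.ofFinite _
  let σ : Equiv.Perm (Sylow q ↥N) := MulAction.toPerm (ConjAct.toConjAct d)
  have hσ : σ ^ 2 ^ 1 = 1 := by
    ext P : 1
    show (σ ^ 2 ^ 1) P = P
    rw [pow_one, pow_two, Equiv.Perm.mul_apply]
    show ConjAct.toConjAct d • (ConjAct.toConjAct d • P) = P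
    rw [smul_smul, ← map_mul, hd, map_one, one_smul]
  have hcard : ¬ 2 ∣ Fintype.card (Sylow q ↥N) := by
    rw [← Nat.card_eq_fintype_card]
    obtain ⟨P⟩ : Nonempty (Sylow q ↥N) := inferInstance
    have h1 : Nat.card (Sylow q ↥N) ∣ Nat.card ↥N :=
      (Sylow.card_dvd_index P).trans (Subgroup.index_dvd_card _)
    intro h2
    exact (Nat.not_even_iff_odd.mpr hNodd) (even_iff_two_dvd.mpr (h2.trans h1))
  have : Fact (Nat.Prime 2) := ⟨Nat.prime_two⟩
  obtain ⟨P, hP⟩ := Equiv.Perm.exists_fixed_point_of_prime (p := 2) (n := 1) hcard hσ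
  have hP' : ConjAct.toConjAct d • P = P := hP
  refine ⟨(P : Subgroup ↥N).map N.subtype, Subgroup.map_subtype_le _, ?_, ?_⟩
  · rw [Subgroup.card_map_of_injective N.subtype_injective]
    exact Sylow.card_eq_multiplicity P
  · rintro x ⟨y, hy, rfl⟩
    have h1 : ConjAct.toConjAct d • y ∈ ((ConjAct.toConjAct d • P : Sylow q ↥N) : Subgroup ↥N) := by
      rw [Sylow.pointwise_smul_def]
      exact Subgroup.smul_mem_pointwise_smul y (ConjAct.toConjAct d) (P : Subgroup ↥N) hy
    rw [hP'] at h1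
    refine ⟨ConjAct.toConjAct d • y, h1, ?_⟩
    show ((ConjAct.toConjAct d • y : ↥N) : G) = d * (y : G) * d⁻¹
    rw [ConjAct.Subgroup.val_conj_smul, ConjAct.toConjAct_smul]


theorem mem_conj_iff {d z : G} : z ∈ conjugatesOf d ↔ ∃ g : G, g * d * g⁻¹ = z := by
  show IsConj d z ↔ _
  exact isConj_iff

/-- Main group-theoretic statement, with the conclusion of the `Z*`-theorem as hypothesis. -/
theorem commutator_le_pgroup [Finite G] (p : ℕ) (hp : p.Prime) {D : Set G} (d : G)
    (hdD : D = conjugatesOf d) (hd2 : orderOf d = 2)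
    (hprod : ∀ x ∈ D, ∀ y ∈ D, x ≠ y → ∃ k : ℕ, orderOf (x * y) = p ^ k)
    (hgen : Subgroup.closure D = ⊤)
    (N : Subgroup G) (hNn : N.Normal) (hNodd : Odd (Nat.card N))
    (hN : ∀ g : G, d * g * d⁻¹ * g⁻¹ ∈ N) :
    ∃ S : Subgroup G, IsPGroup p S ∧ commutator G ≤ S := by
  classical
  have := hNn
  have : Fact p.Prime := ⟨hp⟩
  have hd : d * d = 1 := by rw [← pow_two, ← hd2, pow_orderOf_eq_one]
  have hd' : d⁻¹ = d := inv_eq_of_mul_eq_one_right hd
  have hdd : ∀ y : G, d * (d * y) = y := fun y => by rw [← mul_assoc, hd, one_mul]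
  have hdmem : d ∈ D := hdD ▸ mem_conjugatesOf_self
  have hconjD : ∀ g : G, g * d * g⁻¹ ∈ D := fun g => by
    rw [hdD, mem_conj_iff]; exact ⟨g, rfl⟩
  have hDsq : ∀ z ∈ D, z * z = 1 := by
    intro z hz
    rw [hdD, mem_conj_iff] at hz
    obtain ⟨g, rfl⟩ := hz
    have : g * d * g⁻¹ * (g * d * g⁻¹) = g * (d * d) * g⁻¹ := by group
    rw [this, hd]; group
  have hNd : ∀ x ∈ N, d * x * d⁻¹ ∈ N := fun x hx => hNn.conj_mem x hx d
  have hN0 : Nat.card N ≠ 0 := Nat.card_pos.ne'
  -- F1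
  have F1 : ∀ x ∈ N, d * x * d⁻¹ = x⁻¹ → x ≠ 1 → ∃ k : ℕ, orderOf x = p ^ k := by
    intro x hxN hxinv hx1
    have hxodd : Odd (orderOf x) := by
      have : orderOf x ∣ Nat.card N := by
        have := orderOf_dvd_natCard (⟨x, hxN⟩ : ↥N)
        rwa [Subgroup.orderOf_mk] at this
      exact hNodd.of_dvd_nat this
    obtain ⟨m, -, hmm, hminv⟩ := half_exists hxodd hxinv
    have hz : m⁻¹ * d * (m⁻¹)⁻¹ ∈ D := hconjD m⁻¹
    have hzeq : m⁻¹ * d * (m⁻¹)⁻¹ = d * x := by
      have h1 : m⁻¹ * d * (m⁻¹)⁻¹ = d * ((d * m * d⁻¹)⁻¹ * m) := by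
        rw [hd']
        have : d * ((d * m * d)⁻¹ * m) = (d * d⁻¹) * m⁻¹ * d⁻¹ * m := by group
        rw [this, hd']
        simp [hd, mul_assoc]
      rw [h1, hminv, inv_inv, hmm]
    rw [hzeq] at hz
    have hne : d ≠ d * x := fun h => hx1 (by
      have := congrArg (fun t => d * t) h
      simp only [hd, hdd] at this
      exact this.symm)
    obtain ⟨k, hk⟩ := hprod d hdmem (d * x) hz hne
    rw [hdd] at hk
    exact ⟨k, hk⟩
  -- counting on N
  have cN := card_inverted d hd N hNodd hNd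
  have hiN0 : (invSet d N).ncard ≠ 0 := fun h => hN0 (by rw [← cN, h, zero_mul])
  have hcN0 : Nat.card ↥(cen d N) ≠ 0 := Nat.card_pos.ne'
  -- F3: only p divides iN
  have F3 : ∀ {q : ℕ}, q.Prime → q ∣ (invSet d N).ncard → q = p := by
    intro q hq hqdvd
    by_contra hqp
    have : Fact q.Prime := ⟨hq⟩
    obtain ⟨Q, hQN, hQcard, hQd⟩ := exists_invariant_sylow d hd N hNodd q
    have hQodd : Odd (Nat.card Q) := hNodd.of_dvd_nat (Subgroup.card_dvd_of_le hQN)
    have cQ := card_inverted d hd Q hQodd hQd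
    have hinvQ : invSet d Q = {1} := by
      ext x
      simp only [Set.mem_singleton_iff]
      constructor
      · rintro ⟨hxQ, hxinv⟩
        by_contra hx1
        obtain ⟨k, hk⟩ := F1 x (hQN hxQ) hxinv hx1
        have h1 : orderOf x ∣ q ^ (Nat.card N).factorization q := by
          rw [← hQcard]
          have := orderOf_dvd_natCard (⟨x, hxQ⟩ : ↥Q)
          rwa [Subgroup.orderOf_mk] at this
        obtain ⟨j, -, hj⟩ := (Nat.dvd_prime_pow hq).1 h1
        have hk0 : k ≠ 0 := by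
          rintro rfl
          rw [pow_zero, orderOf_eq_one_iff] at hk
          exact hx1 hk
        have : p ∣ q ^ j := by
          rw [← hj, hk]
          exact dvd_pow_self p hk0
        have := (Nat.prime_dvd_prime_iff_eq hp hq).1 (hp.dvd_of_dvd_pow this)
        exact hqp this.symm
      · rintro rfl
        exact ⟨Q.one_mem, by simp⟩
    rw [hinvQ, Set.ncard_singleton, one_mul] at cQ
    have hle : Q ≤ cen d N := by
      have h1 : cen d Q = Q := by
        apply Subgroup.eq_of_le_of_card_ge (inf_le_left : cen d Q ≤ Q)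
        exact cQ.ge
      rw [← h1]
      exact cen_mono d hQN
    have hdvd : q ^ (Nat.card N).factorization q ∣ Nat.card ↥(cen d N) := by
      rw [← hQcard]
      exact Subgroup.card_dvd_of_le hle
    have : q ^ ((Nat.card N).factorization q + 1) ∣ Nat.card N := by
      have h3 := Nat.mul_dvd_mul hqdvd hdvd
      rw [cN] at h3
      rw [pow_succ, mul_comm]
      exact h3
    exact Nat.pow_succ_factorization_not_dvd hN0 hq this
  have F4 := Nat.eq_prime_pow_of_unique_prime_dvd hiN0 F3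
  set a := (invSet d N).ncard.primeFactorsList.length with ha
  -- the Sylow p-subgroup
  obtain ⟨S, hSN, hScard, hSd⟩ := exists_invariant_sylow d hd N hNodd p
  have hSodd : Odd (Nat.card S) := hNodd.of_dvd_nat (Subgroup.card_dvd_of_le hSN)
  have cS := card_inverted d hd S hSodd hSd
  set e := (Nat.card N).factorization p with he
  have hcSdvd : Nat.card ↥(cen d S) ∣ Nat.card ↥(cen d N) :=
    Subgroup.card_dvd_of_le (cen_mono d hSN)
  have hle : (invSet d N).ncard ≤ (invSet d S).ncard := by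
    obtain ⟨c', hc'e, hc'⟩ := (Nat.dvd_prime_pow hp).1 (by
      rw [← hScard, ← cS]; exact Dvd.intro_left _ rfl : Nat.card ↥(cen d S) ∣ p ^ e)
    have hfac : e = a + (Nat.card ↥(cen d N)).factorization p := by
      rw [he, ← cN, Nat.factorization_mul hiN0 hcN0, Finsupp.add_apply, F4,
        hp.factorization_pow, Finsupp.single_eq_same]
    have hc'le : c' ≤ (Nat.card ↥(cen d N)).factorization p := by
      rw [← hp.pow_dvd_iff_le_factorization hcN0, ← hc']
      exact hcSdvd
    have hiS : (invSet d S).ncard = p ^ (e - c') := by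
      rw [hScard, hc'] at cS
      have hpos : 0 < p ^ c' := pow_pos hp.pos _
      apply Nat.eq_of_mul_eq_mul_right hpos
      rw [cS, ← pow_add, Nat.sub_add_cancel hc'e]
    rw [hiS, F4]
    exact Nat.pow_le_pow_right hp.pos (by omega)
  have hinvEq : invSet d S = invSet d N :=
    Set.eq_of_subset_of_ncard_le (invSet_mono d hSN) hle (Set.toFinite _)
  -- all d * z lie in S
  have F6 : ∀ z ∈ D, d * z ∈ S := by
    intro z hz
    have hzz := hDsq z hz
    have hz' : z⁻¹ = z := inv_eq_of_mul_eq_one_right hzz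
    have hmemN : d * z ∈ invSet d N := by
      refine ⟨?_, ?_⟩
      · rw [hdD, mem_conj_iff] at hz
        obtain ⟨g, rfl⟩ := hz
        have := hN g
        rw [hd'] at this
        have h2 : d * (g * d * g⁻¹) = d * g * d * g⁻¹ := by group
        rw [h2]; exact this
      · rw [mul_inv_rev, hz', hd', ← mul_assoc, hd, one_mul]
    rw [← hinvEq] at hmemN
    exact hmemN.1
  have F6' : ∀ x ∈ D, ∀ y ∈ D, x * y ∈ S := by
    intro x hx y hy
    have hx' : x⁻¹ = x := inv_eq_of_mul_eq_one_right (hDsq x hx)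
    have : x * y = (d * x)⁻¹ * (d * y) := by
      rw [mul_inv_rev, hx', hd', mul_assoc, hdd]
    rw [this]
    exact S.mul_mem (S.inv_mem (F6 x hx)) (F6 y hy)
  refine ⟨S, IsPGroup.of_card hScard, ?_⟩
  -- the normal subgroup generated by products
  let T : Set G := {w | ∃ x ∈ D, ∃ y ∈ D, w = x * y}
  have hTS : Subgroup.closure T ≤ S := by
    rw [Subgroup.closure_le]
    rintro w ⟨x, hx, y, hy, rfl⟩
    exact F6' x hx y hy
  have hDconj : ∀ z ∈ D, ∀ g : G, g * z * g⁻¹ ∈ D := by
    intro z hz g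
    rw [hdD, mem_conj_iff] at hz ⊢
    obtain ⟨h, rfl⟩ := hz
    exact ⟨g * h, by group⟩
  have hKn : (Subgroup.closure T).Normal := by
    refine ⟨fun n hn g => ?_⟩
    induction hn using Subgroup.closure_induction with
    | mem w hw =>
      obtain ⟨x, hx, y, hy, rfl⟩ := hw
      apply Subgroup.subset_closure
      exact ⟨g * x * g⁻¹, hDconj x hx g, g * y * g⁻¹, hDconj y hy g, by group⟩
    | one => simp
    | mul a b _ _ iha ihb =>
      have : g * (a * b) * g⁻¹ = (g * a * g⁻¹) * (g * b * g⁻¹) := by group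
      rw [this]; exact Subgroup.mul_mem _ iha ihb
    | inv a _ iha =>
      have : g * a⁻¹ * g⁻¹ = (g * a * g⁻¹)⁻¹ := by group
      rw [this]; exact Subgroup.inv_mem _ iha
  have hsup : Subgroup.closure T ⊔ Subgroup.zpowers d = ⊤ := by
    rw [eq_top_iff, ← hgen, Subgroup.closure_le]
    intro z hz
    have : z = (d * z) * ((d * z)⁻¹ * z) := by group
    have h1 : d * z ∈ Subgroup.closure T :=
      Subgroup.subset_closure ⟨d, hdmem, z, hz, rfl⟩
    have h2 : z = d * (d * z) := (hdd z).symm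
    rw [SetLike.mem_coe, h2, sup_comm]
    exact Subgroup.mul_mem_sup (Subgroup.mem_zpowers d) h1
  have := hKn
  exact (Subgroup.Normal.commutator_le_of_self_sup_commutative_eq_top hsup
    (Subgroup.zpowers_isMulCommutative d)).trans hTS

end Cfsg.Agent.Lib.Helper5.OddTr
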