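import Mathlib

set_option autoImplicit false

/-!
Groups in which every `p`-element has class size prime to `p`: the condition passes to normal subgroups
and quotients, and if a proper nontrivial normal subgroup `N` has `N` and `G/N` with abelian Sylow
`p`-subgroups, then the Sylow `p`-subgroups of `G` are abelian (`P = Z(P)(P ∩ N)`).
-/

namespace Cfsg.Agent.Lib.Helper5.PClass

open Subgroup

variable {G : Type*} [Group G]

/-- every `p`-element has centralizer of index prime to `p` -/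
def PCond (p : ℕ) (G : Type*) [Group G] : Prop :=
  ∀ x : G, (∃ k : ℕ, orderOf x = p ^ k) → ¬ p ∣ (Subgroup.centralizer ({x} : Set G)).index

theorem relIndex_dvd_index_right [Finite G] (C N : Subgroup G) [N.Normal] :
    C.relIndex N ∣ C.index := by
  have h1 : (C ⊓ N).relIndex C * C.index = (C ⊓ N).index := Subgroup.relIndex_mul_index inf_le_left
  have h2 : (C ⊓ N).relIndex N * N.index = (C ⊓ N).index := Subgroup.relIndex_mul_index inf_le_right
  rw [Subgroup.inf_relIndex_left] at h1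
  rw [Subgroup.inf_relIndex_right] at h2
  have h3 : N.relIndex (C ⊔ N) * (C ⊔ N).index = N.index := Subgroup.relIndex_mul_index le_sup_right
  rw [Subgroup.relIndex_sup_right] at h3
  have hb : N.relIndex C ≠ 0 := by
    unfold Subgroup.relIndex
    exact Subgroup.index_ne_zero_of_finite
  refine ⟨(C ⊔ N).index, ?_⟩
  apply Nat.eq_of_mul_eq_mul_left (Nat.pos_of_ne_zero hb)
  rw [h1, ← h2, ← h3]; ring

theorem pcond_normal [Finite G] {p : ℕ} (N : Subgroup G) [N.Normal] (h : PCond p G) : PCond p N := by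
  intro x hx hdvd
  have hx' : ∃ k : ℕ, orderOf (x : G) = p ^ k := by
    obtain ⟨k, hk⟩ := hx
    exact ⟨k, by rw [Subgroup.orderOf_coe, hk]⟩
  apply h (x : G) hx'
  have heq : Subgroup.centralizer ({x} : Set N) =
      (Subgroup.centralizer ({(x : G)} : Set G)).subgroupOf N := by
    ext y
    rw [Subgroup.mem_centralizer_singleton_iff, Subgroup.mem_subgroupOf,
      Subgroup.mem_centralizer_singleton_iff]
    constructor
    · intro hy
      have := congrArg (Subtype.val) hy
      simpa using this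
    · intro hy
      apply Subtype.ext
      simpa using hy
  rw [heq] at hdvd
  exact dvd_trans hdvd (relIndex_dvd_index_right _ N)

theorem pcond_quotient [Finite G] {p : ℕ} [Fact p.Prime] (N : Subgroup G) [N.Normal] (h : PCond p G) :
    PCond p (G ⧸ N) := by
  intro x hx hdvd
  have hsurj : Function.Surjective (QuotientGroup.mk' N) := QuotientGroup.mk'_surjective N
  -- a Sylow subgroup containing x
  have hpg : IsPGroup p (Subgroup.zpowers x) := by
    obtain ⟨k, hk⟩ := hx
    apply IsPGroup.of_card (n := k)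
    rw [Nat.card_zpowers, hk]
  obtain ⟨Pbar, hPbar⟩ := hpg.exists_le_sylow
  obtain ⟨P, hP⟩ := Sylow.mapSurjective_surjective hsurj p Pbar
  have hxP : x ∈ (P : Subgroup G).map (QuotientGroup.mk' N) := by
    rw [← Sylow.coe_mapSurjective hsurj, hP]
    exact hPbar (Subgroup.mem_zpowers x)
  obtain ⟨y, hyP, hyx⟩ := hxP
  have hy : ∃ k : ℕ, orderOf y = p ^ k := by
    obtain ⟨k, hk⟩ := (IsPGroup.iff_orderOf.1 P.isPGroup') ⟨y, hyP⟩
    exact ⟨k, by rw [← hk, Subgroup.orderOf_mk]⟩
  apply h y hy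
  have hle : (Subgroup.centralizer ({y} : Set G)).map (QuotientGroup.mk' N) ≤
      Subgroup.centralizer ({x} : Set (G ⧸ N)) := by
    rintro _ ⟨c, hc, rfl⟩
    rw [SetLike.mem_coe, Subgroup.mem_centralizer_singleton_iff] at hc
    rw [Subgroup.mem_centralizer_singleton_iff]
    rw [← hyx, ← map_mul, ← map_mul, hc]
  exact dvd_trans hdvd (dvd_trans (Subgroup.index_dvd_of_le hle) (Subgroup.index_map_dvd _ hsurj))

/-- a `p`-element centralizing a Sylow `p`-subgroup lies in it -/
theorem mem_sylow_of_centralizes [Finite G] {p : ℕ} [Fact p.Prime] (P : Sylow p G) (x : G)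
    (hx : ∃ k : ℕ, orderOf x = p ^ k) (hc : ∀ y ∈ P, y * x = x * y) : x ∈ P := by
  have hpg : IsPGroup p (Subgroup.zpowers x) := by
    obtain ⟨k, hk⟩ := hx
    apply IsPGroup.of_card (n := k)
    rw [Nat.card_zpowers, hk]
  have hle : Subgroup.zpowers x ≤ Subgroup.normalizer ((P : Subgroup G) : Set G) := by
    rw [Subgroup.zpowers_le]
    rw [Subgroup.mem_normalizer_iff]
    intro y
    constructor
    · intro hy
      have := hc y hy
      have e : x * y * x⁻¹ = y := by rw [← this]; group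
      rw [e]; exact hy
    · intro hy
      have h1 := hc _ hy
      have e : y = x * y * x⁻¹ := by
        have : x * y * x⁻¹ * x = x * (x * y * x⁻¹) := h1
        have h2 : x * y = x * (x * y * x⁻¹) := by rw [← this]; group
        exact mul_left_cancel h2
      rw [e]; exact hy
  have := (hpg.sylow_mem_fixedPoints_iff (Q := P)).1
    ((Subgroup.sylow_mem_fixedPoints_iff (Subgroup.zpowers x)).2 hle)
  exact this (Subgroup.mem_zpowers x)

/-- every `p`-element is conjugate into the centre of a given Sylow `p`-subgroup -/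
theorem exists_conj_mem_center [Finite G] {p : ℕ} [Fact p.Prime] (h : PCond p G) (P : Sylow p G)
    (x : G) (hx : ∃ k : ℕ, orderOf x = p ^ k) :
    ∃ g : G, g * x * g⁻¹ ∈ P ∧ ∀ y ∈ P, y * (g * x * g⁻¹) = (g * x * g⁻¹) * y := by
  set C := Subgroup.centralizer ({x} : Set G) with hC
  have hnd : ¬ p ∣ Nat.card (G ⧸ C) := h x hx
  obtain ⟨a, ha⟩ := P.isPGroup'.nonempty_fixed_point_of_prime_not_dvd_card (G ⧸ C) hnd
  induction a using QuotientGroup.induction_on with
  | H g =>
    have hcomm : ∀ y ∈ P, y * (g * x * g⁻¹) = (g * x * g⁻¹) * y := by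
      intro y hy
      have h1 := ha ⟨y, hy⟩
      have h2 : ((y * g : G) : G ⧸ C) = (g : G ⧸ C) := h1
      rw [QuotientGroup.eq] at h2
      rw [hC, Subgroup.mem_centralizer_singleton_iff] at h2
      -- (y g)⁻¹ g x = x (y g)⁻¹ g
      have e : y⁻¹ * (g * x * g⁻¹) = (g * x * g⁻¹) * y⁻¹ := by
        calc y⁻¹ * (g * x * g⁻¹) = g * ((y * g)⁻¹ * g * x) * g⁻¹ := by group
          _ = g * (x * ((y * g)⁻¹ * g)) * g⁻¹ := by rw [h2]
          _ = (g * x * g⁻¹) * y⁻¹ := by group
      calc y * (g * x * g⁻¹) = y * ((g * x * g⁻¹) * y⁻¹) * y := by group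
        _ = y * (y⁻¹ * (g * x * g⁻¹)) * y := by rw [e]
        _ = (g * x * g⁻¹) * y := by group
    refine ⟨g, ?_, hcomm⟩
    apply mem_sylow_of_centralizes P _ _ hcomm
    obtain ⟨k, hk⟩ := hx
    refine ⟨k, ?_⟩
    rw [← hk]
    have : g * x * g⁻¹ = MulAut.conj g x := by simp
    rw [this, MulEquiv.orderOf_eq]


/-- If `N` and `G/N` have abelian Sylow `p`-subgroups and all `p`-elements have `p'`-class size,
then the Sylow `p`-subgroups of `G` are abelian. -/
theorem commutative_of_normal [Finite G] {p : ℕ} [Fact p.Prime] (h : PCond p G)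
    (N : Subgroup G) [N.Normal]
    (hN : ∀ Q : Sylow p N, IsMulCommutative Q) (hQ : ∀ Q : Sylow p (G ⧸ N), IsMulCommutative Q)
    (P : Sylow p G) : IsMulCommutative P := by
  classical
  let π := QuotientGroup.mk' N
  -- Step 1: P is abelian modulo N
  have hmod : ∀ a ∈ P, ∀ b ∈ P, π a * π b = π b * π a := by
    have hpg : IsPGroup p ((P : Subgroup G).map π) := P.isPGroup'.map π
    obtain ⟨Qb, hQb⟩ := hpg.exists_le_sylow
    intro a ha b hb
    have h1 := (hQ Qb).is_comm.comm ⟨π a, hQb ⟨a, ha, rfl⟩⟩ ⟨π b, hQb ⟨b, hb, rfl⟩⟩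
    exact congrArg Subtype.val h1
  -- Step 2: P ∩ N is abelian
  have hinf : ∀ u ∈ P, u ∈ N → ∀ v ∈ P, v ∈ N → u * v = v * u := by
    have hpg : IsPGroup p ((P : Subgroup G).subgroupOf N) := P.isPGroup'.comap_subtype
    obtain ⟨Q0, hQ0⟩ := hpg.exists_le_sylow
    intro u hu huN v hv hvN
    have hu' : (⟨u, huN⟩ : N) ∈ (Q0 : Subgroup N) := hQ0 (Subgroup.mem_subgroupOf.2 hu)
    have hv' : (⟨v, hvN⟩ : N) ∈ (Q0 : Subgroup N) := hQ0 (Subgroup.mem_subgroupOf.2 hv)
    have h1 := (hN Q0).is_comm.comm ⟨_, hu'⟩ ⟨_, hv'⟩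
    have h2 := congrArg (fun t : (Q0 : Subgroup N) => ((t : N) : G)) h1
    exact h2
  -- Step 3: decomposition
  have hdec : ∀ x ∈ P, ∃ z ∈ P, (∀ y ∈ P, y * z = z * y) ∧ ∃ u ∈ P, u ∈ N ∧ x = z * u := by
    intro x hxP
    have hx : ∃ k : ℕ, orderOf x = p ^ k := by
      obtain ⟨k, hk⟩ := (IsPGroup.iff_orderOf.1 P.isPGroup') ⟨x, hxP⟩
      exact ⟨k, by rw [← hk, Subgroup.orderOf_mk]⟩
    obtain ⟨g, hgP, hgc⟩ := exists_conj_mem_center h P x hx
    let Cs : Subgroup G := (Subgroup.centralizer ({π x} : Set (G ⧸ N))).comap π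
    have hmemCs : ∀ a : G, a ∈ Cs ↔ π a * π x = π x * π a := by
      intro a
      show π a ∈ Subgroup.centralizer ({π x} : Set (G ⧸ N)) ↔ _
      rw [Subgroup.mem_centralizer_singleton_iff]
    have hPCs : (P : Subgroup G) ≤ Cs := by
      intro a ha
      rw [hmemCs]
      exact hmod a ha x hxP
    let Q : Sylow p G := g⁻¹ • P
    have hQmem : ∀ y, y ∈ (Q : Subgroup G) ↔ g * y * g⁻¹ ∈ P := by
      intro y
      show y ∈ ((g⁻¹ • P : Sylow p G) : Subgroup G) ↔ _
      rw [Sylow.coe_subgroup_smul, Subgroup.mem_pointwise_smul_iff_inv_smul_mem]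
      simp only [MulAut.smul_def, map_inv, inv_inv, MulAut.conj_apply]
      exact Iff.rfl
    have hQCs : (Q : Subgroup G) ≤ Cs := by
      intro y hy
      rw [hmemCs]
      have h1 := hgc _ ((hQmem y).1 hy)
      -- g y g⁻¹ commutes with g x g⁻¹, so y commutes with x
      have h2 : y * x = x * y := by
        have : g * (y * x) * g⁻¹ = g * (x * y) * g⁻¹ := by
          calc g * (y * x) * g⁻¹ = (g * y * g⁻¹) * (g * x * g⁻¹) := by group
            _ = (g * x * g⁻¹) * (g * y * g⁻¹) := h1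
            _ = g * (x * y) * g⁻¹ := by group
        exact mul_left_cancel (mul_right_cancel this)
      rw [← map_mul, ← map_mul, h2]
    obtain ⟨c, hc⟩ := MulAction.exists_smul_eq Cs (Q.subtype hQCs) (P.subtype hPCs)
    rw [Sylow.smul_subtype] at hc
    have hcQ : (c : G) • Q = P := Sylow.subtype_injective hc
    have hn : ((c : G) * g⁻¹) • P = P := by
      rw [mul_smul]; exact hcQ
    rw [Sylow.smul_eq_iff_mem_normalizer] at hn
    set n : G := (c : G) * g⁻¹ with hndef
    have hninv : n⁻¹ ∈ Subgroup.normalizer ((P : Subgroup G) : Set G) := Subgroup.inv_mem _ hn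
    set z : G := (c : G) * x * (c : G)⁻¹ with hzdef
    have hz : z = n * (g * x * g⁻¹) * n⁻¹ := by
      rw [hzdef, hndef]; group
    have hzP : z ∈ P := by
      rw [hz]
      exact (Subgroup.mem_normalizer_iff.1 hn _).1 hgP
    have hzc : ∀ y ∈ P, y * z = z * y := by
      intro y hy
      have hy' : n⁻¹ * y * n⁻¹⁻¹ ∈ P := (Subgroup.mem_normalizer_iff.1 hninv _).1 hy
      have h1 := hgc _ hy'
      rw [hz]
      calc y * (n * (g * x * g⁻¹) * n⁻¹) = n * ((n⁻¹ * y * n⁻¹⁻¹) * (g * x * g⁻¹)) * n⁻¹ := by group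
        _ = n * ((g * x * g⁻¹) * (n⁻¹ * y * n⁻¹⁻¹)) * n⁻¹ := by rw [h1]
        _ = n * (g * x * g⁻¹) * n⁻¹ * y := by group
    refine ⟨z, hzP, hzc, z⁻¹ * x, Subgroup.mul_mem _ (Subgroup.inv_mem _ hzP) hxP, ?_, by group⟩
    rw [← QuotientGroup.eq_one_iff]
    show π (z⁻¹ * x) = 1
    have hcCs := (hmemCs (c : G)).1 c.2
    rw [hzdef, map_mul, map_inv, map_mul, map_mul, map_inv, hcCs]
    group
  -- Step 4
  refine ⟨⟨?_⟩⟩
  rintro ⟨a, ha⟩ ⟨b, hb⟩
  apply Subtype.ext
  show a * b = b * a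
  obtain ⟨za, hzaP, hzac, ua, huaP, huaN, rfl⟩ := hdec a ha
  obtain ⟨zb, hzbP, hzbc, ub, hubP, hubN, rfl⟩ := hdec b hb
  have e1 := hzbc ua huaP
  have e2 := hzac zb hzbP
  have e3 := hinf ua huaP huaN ub hubP hubN
  have e4 := hzac ub hubP
  calc za * ua * (zb * ub) = za * (ua * zb) * ub := by group
    _ = za * (zb * ua) * ub := by rw [e1]
    _ = (za * zb) * (ua * ub) := by group
    _ = (zb * za) * (ub * ua) := by rw [e3, ← e2]
    _ = zb * (za * ub) * ua := by group
    _ = zb * (ub * za) * ua := by rw [← e4]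
    _ = zb * ub * (za * ua) := by group

end Cfsg.Agent.Lib.Helper5.PClass
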