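import Mathlib

/-!
# Recognition of `S₃ × C_f` and `S₄ × C_f` (helper5)

Generic finite group theory:
* `card_sup_mul_card_inf` : `|HK| |H ∩ K| = |H| |K|` for `K` normal;
* `prod_of_central` : a group generated by a subgroup `N` and a central subgroup `Φ` with
  `|G| = |N| |Φ|` is `N × Φ`;
* `nonempty_mulEquiv_perm3` : a non-abelian group of order `6` is `S₃`;
* `nonempty_mulEquiv_perm4` : a group of order `24` with a normal subgroup `V` of order `4` and a
  subgroup `Γ` of order `6` meeting `V` trivially and acting faithfully on `V` is `S₄`;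
* `R3`, `R4` : the recognition lemmas for `S₃ × C_f` and `S₄ × C_f`.
-/

set_option autoImplicit false

namespace Cfsg.Agent.Lib.Helper5.Grp.RecogS4

variable {G : Type*} [Group G]

/-- `|HK| |H ∩ K| = |H| |K|` for a normal subgroup `K` -/
theorem card_sup_mul_card_inf [Finite G] (H K : Subgroup G) [K.Normal] :
    Nat.card ↥(H ⊔ K) * Nat.card ↥(H ⊓ K) = Nat.card ↥H * Nat.card ↥K := by
  have h1 : Nat.card ↥(H ⊓ K) * K.relIndex H = Nat.card ↥H := by
    rw [← Subgroup.inf_relIndex_left, ← Subgroup.relIndex_bot_left, ← Subgroup.relIndex_bot_left,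
      Subgroup.relIndex_mul_relIndex _ _ _ bot_le inf_le_left]
  have h2 : Nat.card ↥K * K.relIndex (H ⊔ K) = Nat.card ↥(H ⊔ K) := by
    rw [← Subgroup.relIndex_bot_left, ← Subgroup.relIndex_bot_left,
      Subgroup.relIndex_mul_relIndex _ _ _ bot_le le_sup_right]
  rw [Subgroup.relIndex_sup_right] at h2
  rw [← h2, ← h1]
  ring

theorem card_sup_le_mul [Finite G] (H K : Subgroup G) [K.Normal] :
    Nat.card ↥(H ⊔ K) ≤ Nat.card ↥H * Nat.card ↥K := by
  rw [← card_sup_mul_card_inf H K]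
  exact Nat.le_mul_of_pos_right _ Nat.card_pos

theorem central_normal (Φ : Subgroup G) (hΦc : Φ ≤ Subgroup.center G) : Φ.Normal := by
  constructor
  intro z hz g
  have h := Subgroup.mem_center_iff.1 (hΦc hz) g
  have e : g * z * g⁻¹ = z := by rw [h, mul_inv_cancel_right]
  rw [e]
  exact hz

/-- a group generated by a subgroup and a central subgroup of complementary order is their
direct product -/
theorem prod_of_central [Finite G] (N Φ : Subgroup G) (hΦc : Φ ≤ Subgroup.center G)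
    (hgen : N ⊔ Φ = ⊤) (hcard : Nat.card G = Nat.card ↥N * Nat.card ↥Φ) :
    Nonempty (G ≃* ↥N × ↥Φ) := by
  have : Φ.Normal := central_normal Φ hΦc
  have h1 := card_sup_mul_card_inf N Φ
  rw [hgen, Subgroup.card_top, ← hcard] at h1
  have hpos : 0 < Nat.card G := Nat.card_pos
  have h2 : Nat.card ↥(N ⊓ Φ) = 1 := by
    have : Nat.card G * Nat.card ↥(N ⊓ Φ) = Nat.card G * 1 := by rw [h1, mul_one]
    exact Nat.eq_of_mul_eq_mul_left hpos this
  have hdis : N ⊓ Φ = ⊥ := Subgroup.card_eq_one.1 h2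
  let μ : ↥N × ↥Φ →* G :=
    { toFun := fun x => (x.1 : G) * (x.2 : G)
      map_one' := by simp
      map_mul' := by
        intro x y
        have hc := Subgroup.mem_center_iff.1 (hΦc x.2.2) (y.1 : G)
        show ((x.1 * y.1 : ↥N) : G) * ((x.2 * y.2 : ↥Φ) : G) = _
        rw [Subgroup.coe_mul, Subgroup.coe_mul]
        calc (x.1 : G) * (y.1 : G) * ((x.2 : G) * (y.2 : G))
            = (x.1 : G) * ((y.1 : G) * (x.2 : G)) * (y.2 : G) := by group
          _ = (x.1 : G) * ((x.2 : G) * (y.1 : G)) * (y.2 : G) := by rw [hc]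
          _ = (x.1 : G) * (x.2 : G) * ((y.1 : G) * (y.2 : G)) := by group }
  have hinj : Function.Injective μ := by
    rw [injective_iff_map_eq_one]
    rintro ⟨n, z⟩ h
    have h' : (n : G) * (z : G) = 1 := h
    have hn : (n : G) = (z : G)⁻¹ := eq_inv_of_mul_eq_one_left h'
    have hmem : (n : G) ∈ N ⊓ Φ := Subgroup.mem_inf.2 ⟨n.2, by rw [hn]; exact Φ.inv_mem z.2⟩
    rw [hdis, Subgroup.mem_bot] at hmem
    have hz : (z : G) = 1 := by rw [hmem, one_mul] at h'; exact h'
    exact Prod.ext (Subtype.ext hmem) (Subtype.ext hz)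
  have hbij : Function.Bijective μ := by
    apply hinj.bijective_of_nat_card_le
    rw [Nat.card_prod, hcard]
  exact ⟨(MulEquiv.ofBijective μ hbij).symm⟩

/-- a normal subgroup of order two is central -/
theorem central_of_normal_card_two (H : Subgroup G) [H.Normal] (h2 : Nat.card ↥H = 2) :
    H ≤ Subgroup.center G := by
  intro t ht
  rw [Subgroup.mem_center_iff]
  intro g
  by_cases ht1 : t = 1
  · rw [ht1, mul_one, one_mul]
  · have hc : g * t * g⁻¹ ∈ H := Subgroup.Normal.conj_mem inferInstance t ht g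
    have hne : g * t * g⁻¹ ≠ 1 := by
      intro h
      apply ht1
      have : t = g⁻¹ * (g * t * g⁻¹) * g := by group
      rw [this, h]
      group
    -- `H` has exactly two elements
    have : Finite ↥H := Nat.finite_of_card_ne_zero (by rw [h2]; norm_num)
    have key : ∀ x y : ↥H, x ≠ 1 → y ≠ 1 → x = y := by
      intro x y hx hy
      by_contra hxy
      have h3 : 3 ≤ Nat.card ↥H := by
        classical
        let _ : Fintype ↥H := Fintype.ofFinite _
        rw [Nat.card_eq_fintype_card]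
        have hs : ({1, x, y} : Finset ↥H).card = 3 := by
          rw [Finset.card_insert_of_notMem, Finset.card_insert_of_notMem, Finset.card_singleton]
          · simpa using hxy
          · simp only [Finset.mem_insert, Finset.mem_singleton, not_or]
            exact ⟨fun e => hx e.symm, fun e => hy e.symm⟩
        rw [← hs]
        exact Finset.card_le_univ _
      omega
    have e := key ⟨g * t * g⁻¹, hc⟩ ⟨t, ht⟩ (fun h => hne (congrArg Subtype.val h))
      (fun h => ht1 (congrArg Subtype.val h))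
    have e' : g * t * g⁻¹ = t := congrArg Subtype.val e
    calc g * t = g * t * g⁻¹ * g := by group
      _ = t * g := by rw [e']

/-- **a non-abelian group of order `6` is the symmetric group of degree `3`** -/
theorem nonempty_mulEquiv_perm3 [Finite G] (h6 : Nat.card G = 6)
    (hnab : ∃ a b : G, a * b ≠ b * a) : Nonempty (G ≃* Equiv.Perm (Fin 3)) := by
  have : Fact (Nat.Prime 2) := ⟨Nat.prime_two⟩
  have : Fact (Nat.Prime 3) := ⟨Nat.prime_three⟩
  obtain ⟨t, ht⟩ := exists_prime_orderOf_dvd_card' (G := G) 2 (by rw [h6]; norm_num)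
  set H : Subgroup G := Subgroup.zpowers t with hH
  have hH2 : Nat.card ↥H = 2 := by rw [hH, Nat.card_zpowers, ht]
  have hidx : H.index = 3 := by
    have := H.index_mul_card
    rw [hH2, h6] at this
    omega
  have hq : Nat.card (G ⧸ H) = 3 := by rw [← Subgroup.index_eq_card]; exact hidx
  -- the core of `H` is trivial
  have hcore : H.normalCore = ⊥ := by
    by_contra hne
    have hle : H.normalCore ≤ H := Subgroup.normalCore_le H
    have hc1 : Nat.card ↥H.normalCore ≠ 1 := fun h => hne (Subgroup.card_eq_one.1 h)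
    have hdvd : Nat.card ↥H.normalCore ∣ 2 := by
      rw [← hH2]
      exact Subgroup.card_dvd_of_le hle
    have hc2 : Nat.card ↥H.normalCore = 2 := by
      rcases (Nat.dvd_prime Nat.prime_two).1 hdvd with h | h
      · exact absurd h hc1
      · exact h
    have heq : H.normalCore = H := by
      apply Subgroup.eq_of_le_of_card_ge hle
      rw [hc2, hH2]
    have : H.Normal := by rw [← heq]; infer_instance
    have hcen := central_of_normal_card_two H hH2
    have : IsCyclic (G ⧸ H) := isCyclic_of_prime_card hq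
    obtain ⟨a, b, hab⟩ := hnab
    apply hab
    exact commutative_of_cyclic_center_quotient (QuotientGroup.mk' H)
      (by rw [QuotientGroup.ker_mk']; exact hcen) a b
  have hinj : Function.Injective (MulAction.toPermHom G (G ⧸ H)) := by
    rw [← MonoidHom.ker_eq_bot_iff, ← Subgroup.normalCore_eq_ker, hcore]
  have : Finite (G ⧸ H) := Nat.finite_of_card_ne_zero (by rw [hq]; norm_num)
  have hbij : Function.Bijective (MulAction.toPermHom G (G ⧸ H)) := by
    apply hinj.bijective_of_nat_card_le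
    rw [Nat.card_perm, hq, h6]
    decide
  have e1 : G ≃* Equiv.Perm (G ⧸ H) := MulEquiv.ofBijective _ hbij
  have e2 : (G ⧸ H) ≃ Fin 3 := Finite.equivFinOfCardEq hq
  exact ⟨e1.trans (Equiv.permCongrHom e2)⟩

/-- **a group of order `24` with a normal subgroup `V` and a subgroup `Γ` of order `6` meeting `V`
trivially and acting faithfully on `V` is the symmetric group of degree `4`** -/
theorem nonempty_mulEquiv_perm4 [Finite G] (V Γ : Subgroup G) (hV : V.Normal)
    (hcard : Nat.card G = 24) (hΓ : Nat.card ↥Γ = 6) (hVΓ : V ⊓ Γ = ⊥)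
    (hfaith : ∀ g ∈ Γ, (∀ v ∈ V, g * v = v * g) → g = 1) :
    Nonempty (G ≃* Equiv.Perm (Fin 4)) := by
  have hidx : Γ.index = 4 := by
    have := Γ.index_mul_card
    rw [hΓ, hcard] at this
    omega
  have hq : Nat.card (G ⧸ Γ) = 4 := by rw [← Subgroup.index_eq_card]; exact hidx
  have hcore : Γ.normalCore = ⊥ := by
    rw [eq_bot_iff]
    intro c hc
    rw [Subgroup.mem_bot]
    have hcΓ : c ∈ Γ := Subgroup.normalCore_le Γ hc
    apply hfaith c hcΓ
    intro v hv
    have hdis : Disjoint Γ.normalCore V := by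
      rw [disjoint_iff, eq_bot_iff]
      intro x hx
      rw [← hVΓ]
      exact Subgroup.mem_inf.2 ⟨(Subgroup.mem_inf.1 hx).2,
        Subgroup.normalCore_le Γ (Subgroup.mem_inf.1 hx).1⟩
    exact (Subgroup.commute_of_normal_of_disjoint _ _ inferInstance hV hdis c v hc hv).eq
  have hinj : Function.Injective (MulAction.toPermHom G (G ⧸ Γ)) := by
    rw [← MonoidHom.ker_eq_bot_iff, ← Subgroup.normalCore_eq_ker, hcore]
  have : Finite (G ⧸ Γ) := Nat.finite_of_card_ne_zero (by rw [hq]; norm_num)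
  have hbij : Function.Bijective (MulAction.toPermHom G (G ⧸ Γ)) := by
    apply hinj.bijective_of_nat_card_le
    rw [Nat.card_perm, hq, hcard]
    decide
  have e1 : G ≃* Equiv.Perm (G ⧸ Γ) := MulEquiv.ofBijective _ hbij
  have e2 : (G ⧸ Γ) ≃ Fin 4 := Finite.equivFinOfCardEq hq
  exact ⟨e1.trans (Equiv.permCongrHom e2)⟩

/-- a cyclic group of order `f` is `Multiplicative (ZMod f)` -/
theorem nonempty_mulEquiv_zmod (Φ : Subgroup G) (hΦcyc : IsCyclic ↥Φ) {f : ℕ}
    (hΦ : Nat.card ↥Φ = f) : Nonempty (↥Φ ≃* Multiplicative (ZMod f)) := by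
  have e := (zmodCyclicMulEquiv hΦcyc).symm
  rw [hΦ] at e
  exact ⟨e⟩

/-- **recognition of `S₃ × C_f`** -/
theorem R3 [Finite G] (f : ℕ) (Γ Φ : Subgroup G) (hΓ6 : Nat.card ↥Γ ≤ 6)
    (hΦc : Φ ≤ Subgroup.center G) (hΦcyc : IsCyclic ↥Φ) (hΦf : Nat.card ↥Φ ≤ f)
    (hgen : Γ ⊔ Φ = ⊤) (hcard : Nat.card G = 6 * f)
    (hnab : ∃ a ∈ Γ, ∃ b ∈ Γ, a * b ≠ b * a) :
    Nonempty (G ≃* Equiv.Perm (Fin 3) × Multiplicative (ZMod f)) := by
  have : Φ.Normal := central_normal Φ hΦc
  have h1 := card_sup_le_mul Γ Φ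
  rw [hgen, Subgroup.card_top, hcard] at h1
  have hΓpos : 0 < Nat.card ↥Γ := Nat.card_pos
  have hΦpos : 0 < Nat.card ↥Φ := Nat.card_pos
  have hGpos : 0 < Nat.card G := Nat.card_pos
  have hfpos : 0 < f := by
    rcases Nat.eq_zero_or_pos f with h | h
    · rw [h] at hcard
      omega
    · exact h
  have hΓ : Nat.card ↥Γ = 6 := by
    by_contra h
    have h5 : Nat.card ↥Γ ≤ 5 := by omega
    have := Nat.mul_le_mul h5 hΦf
    omega
  have hΦ : Nat.card ↥Φ = f := by
    by_contra h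
    have h5 : Nat.card ↥Φ + 1 ≤ f := by omega
    have h6 : Nat.card ↥Γ * Nat.card ↥Φ ≤ 6 * Nat.card ↥Φ := Nat.mul_le_mul hΓ6 le_rfl
    omega
  obtain ⟨e1⟩ := prod_of_central Γ Φ hΦc hgen (by rw [hcard, hΓ, hΦ])
  obtain ⟨a, ha, b, hb, hab⟩ := hnab
  obtain ⟨e2⟩ := nonempty_mulEquiv_perm3 (G := ↥Γ) hΓ
    ⟨⟨a, ha⟩, ⟨b, hb⟩, fun h => hab (congrArg Subtype.val h)⟩
  obtain ⟨e3⟩ := nonempty_mulEquiv_zmod Φ hΦcyc hΦ
  exact ⟨e1.trans (MulEquiv.prodCongr e2 e3)⟩

/-- **recognition of `S₄ × C_f`** -/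
theorem R4 [Finite G] (f : ℕ) (V Γ Φ : Subgroup G) (hV : V.Normal) (hV4 : Nat.card ↥V ≤ 4)
    (hΓ6 : Nat.card ↥Γ ≤ 6) (hΦc : Φ ≤ Subgroup.center G) (hΦcyc : IsCyclic ↥Φ)
    (hΦf : Nat.card ↥Φ ≤ f) (hgen : V ⊔ Γ ⊔ Φ = ⊤) (hcard : Nat.card G = 24 * f)
    (hfaith : ∀ g ∈ Γ, (∀ v ∈ V, g * v = v * g) → g = 1) :
    Nonempty (G ≃* Equiv.Perm (Fin 4) × Multiplicative (ZMod f)) := by
  have : Φ.Normal := central_normal Φ hΦc
  set N : Subgroup G := V ⊔ Γ with hN
  have hN' : N = Γ ⊔ V := sup_comm _ _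
  have h0 := card_sup_mul_card_inf Γ V
  rw [← hN'] at h0
  have h1 := card_sup_le_mul N Φ
  rw [hgen, Subgroup.card_top, hcard] at h1
  have hVpos : 0 < Nat.card ↥V := Nat.card_pos
  have hΓpos : 0 < Nat.card ↥Γ := Nat.card_pos
  have hΦpos : 0 < Nat.card ↥Φ := Nat.card_pos
  have hNpos : 0 < Nat.card ↥N := Nat.card_pos
  have hIpos : 0 < Nat.card ↥(Γ ⊓ V) := Nat.card_pos
  have hGpos : 0 < Nat.card G := Nat.card_pos
  have hfpos : 0 < f := by
    rcases Nat.eq_zero_or_pos f with h | h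
    · rw [h] at hcard
      omega
    · exact h
  have hΓV : Nat.card ↥Γ * Nat.card ↥V ≤ 24 := by
    have := Nat.mul_le_mul hΓ6 hV4
    omega
  have hNle : Nat.card ↥N ≤ 24 := by
    have : Nat.card ↥N ≤ Nat.card ↥N * Nat.card ↥(Γ ⊓ V) := Nat.le_mul_of_pos_right _ hIpos
    omega
  have hNc : Nat.card ↥N = 24 := by
    by_contra h
    have h5 : Nat.card ↥N ≤ 23 := by omega
    have := Nat.mul_le_mul h5 hΦf
    omega
  have hΦ : Nat.card ↥Φ = f := by
    by_contra h
    have h5 : Nat.card ↥Φ + 1 ≤ f := by omega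
    have h6 : Nat.card ↥N * Nat.card ↥Φ ≤ 24 * Nat.card ↥Φ := Nat.mul_le_mul hNle le_rfl
    omega
  have hI : Nat.card ↥(Γ ⊓ V) = 1 := by
    by_contra h
    have h2 : 2 ≤ Nat.card ↥(Γ ⊓ V) := by omega
    have := Nat.mul_le_mul (le_of_eq hNc.symm) h2
    omega
  have hΓ : Nat.card ↥Γ = 6 := by
    rw [hNc, hI, mul_one] at h0
    by_contra h
    have h5 : Nat.card ↥Γ ≤ 5 := by omega
    have := Nat.mul_le_mul h5 hV4
    omega
  have hdis : V ⊓ Γ = ⊥ := by
    rw [inf_comm]
    exact Subgroup.card_eq_one.1 hI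
  obtain ⟨e1⟩ := prod_of_central N Φ hΦc hgen (by rw [hcard, hNc, hΦ])
  have hVN : V ≤ N := le_sup_left
  have hΓN : Γ ≤ N := le_sup_right
  obtain ⟨e2⟩ := nonempty_mulEquiv_perm4 (G := ↥N) (V.subgroupOf N) (Γ.subgroupOf N)
    (Subgroup.Normal.subgroupOf hV N) hNc
    (by rw [Nat.card_congr (Subgroup.subgroupOfEquivOfLe hΓN).toEquiv, hΓ])
    (by
      rw [eq_bot_iff]
      intro x hx
      rw [Subgroup.mem_bot]
      have hx' : (x : G) ∈ V ⊓ Γ :=
        Subgroup.mem_inf.2 ⟨Subgroup.mem_subgroupOf.1 (Subgroup.mem_inf.1 hx).1,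
          Subgroup.mem_subgroupOf.1 (Subgroup.mem_inf.1 hx).2⟩
      rw [hdis, Subgroup.mem_bot] at hx'
      exact Subtype.ext hx')
    (by
      intro g hg hcomm
      apply Subtype.ext
      apply hfaith (g : G) (Subgroup.mem_subgroupOf.1 hg)
      intro v hv
      have := hcomm ⟨v, hVN hv⟩ (Subgroup.mem_subgroupOf.2 hv)
      exact congrArg Subtype.val this)
  obtain ⟨e3⟩ := nonempty_mulEquiv_zmod Φ hΦcyc hΦ
  exact ⟨e1.trans (MulEquiv.prodCongr e2 e3)⟩

end Cfsg.Agent.Lib.Helper5.Grp.RecogS4
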