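import Mathlib

set_option autoImplicit false

/-!
Recognising quotients of order 2 and 4 and turning the isomorphism into a surjection with the
prescribed kernel.
-/

namespace Cfsg.Agent.Lib.Helper5.SmallQuot

variable {A : Type*} [Group A]

/-- an isomorphism of the quotient gives a surjection with the right kernel -/
lemma exists_hom_of_quot_equiv {T : Type*} [Group T] (I D : Subgroup A)
    [hN : (I.subgroupOf D).Normal] (e : (↥D ⧸ I.subgroupOf D) ≃* T) :
    ∃ φ : ↥D →* T, Function.Surjective φ ∧ φ.ker = I.subgroupOf D := by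
  refine ⟨e.toMonoidHom.comp (QuotientGroup.mk' _),
    e.surjective.comp (QuotientGroup.mk'_surjective _), ?_⟩
  ext z
  rw [MonoidHom.mem_ker, MonoidHom.comp_apply]
  show e (QuotientGroup.mk' _ z) = 1 ↔ _
  rw [MulEquiv.map_eq_one_iff]
  exact QuotientGroup.eq_one_iff z

/-- relative index two: the quotient is `ℤ/2` -/
theorem exists_hom_two (I D : Subgroup A) [I.Normal] (h : I.relIndex D = 2) :
    ∃ φ : ↥D →* Multiplicative (ZMod 2), Function.Surjective φ ∧ φ.ker = I.subgroupOf D := by
  have hcard : Nat.card (↥D ⧸ I.subgroupOf D) = 2 := by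
    rw [← Subgroup.index_eq_card]
    exact h
  have : Fact (Nat.Prime 2) := ⟨Nat.prime_two⟩
  have hc : IsCyclic (↥D ⧸ I.subgroupOf D) := isCyclic_of_prime_card hcard
  have e := zmodCyclicMulEquiv hc
  rw [hcard] at e
  exact exists_hom_of_quot_equiv I D e.symm

/-- relative index four with an element of order four in the quotient: the quotient is `ℤ/4` -/
theorem exists_hom_four_cyclic (I D : Subgroup A) [I.Normal] (h : I.relIndex D = 4) (x : A)
    (hx : x ∈ D) (hxx : x * x ∉ I) :
    ∃ φ : ↥D →* Multiplicative (ZMod 4), Function.Surjective φ ∧ φ.ker = I.subgroupOf D := by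
  have hcard : Nat.card (↥D ⧸ I.subgroupOf D) = 4 := by
    rw [← Subgroup.index_eq_card]
    exact h
  have : Finite (↥D ⧸ I.subgroupOf D) := Nat.finite_of_card_ne_zero (by rw [hcard]; norm_num)
  set y : ↥D ⧸ I.subgroupOf D := QuotientGroup.mk ⟨x, hx⟩ with hy
  have hy2 : y * y ≠ 1 := by
    intro h1
    apply hxx
    rw [hy, ← QuotientGroup.mk_mul, QuotientGroup.eq_one_iff] at h1
    exact Subgroup.mem_subgroupOf.1 h1
  have hord : orderOf y = 4 := by
    have hdvd : orderOf y ∣ 4 := hcard ▸ orderOf_dvd_natCard y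
    have h1 : orderOf y ≠ 1 := by
      intro h
      rw [orderOf_eq_one_iff] at h
      apply hy2
      rw [h, one_mul]
    have h2 : orderOf y ≠ 2 := by
      intro h
      apply hy2
      have := pow_orderOf_eq_one y
      rw [h, pow_two] at this
      exact this
    have hle : orderOf y ≤ 4 := Nat.le_of_dvd (by norm_num) hdvd
    have h0 : orderOf y ≠ 0 := (orderOf_pos y).ne'
    have h3 : orderOf y ≠ 3 := by
      intro h
      rw [h] at hdvd
      omega
    omega
  have hc : IsCyclic (↥D ⧸ I.subgroupOf D) :=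
    isCyclic_of_orderOf_eq_card y (by rw [hord, hcard])
  have e := zmodCyclicMulEquiv hc
  rw [hcard] at e
  exact exists_hom_of_quot_equiv I D e.symm

/-- relative index four with two distinct involutions in the quotient: the quotient is a Klein
four-group -/
theorem exists_hom_klein (I D : Subgroup A) [I.Normal] (h : I.relIndex D = 4) (x y : A)
    (hx : x ∈ D) (hy : y ∈ D) (hx1 : x ∉ I) (hy1 : y ∉ I) (hxy : x⁻¹ * y ∉ I)
    (hxx : x * x ∈ I) (hyy : y * y ∈ I) :
    ∃ φ : ↥D →* Multiplicative (ZMod 2 × ZMod 2), Function.Surjective φ ∧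
      φ.ker = I.subgroupOf D := by
  classical
  have hcard : Nat.card (↥D ⧸ I.subgroupOf D) = 4 := by
    rw [← Subgroup.index_eq_card]
    exact h
  have : Finite (↥D ⧸ I.subgroupOf D) := Nat.finite_of_card_ne_zero (by rw [hcard]; norm_num)
  letI : Fintype (↥D ⧸ I.subgroupOf D) := Fintype.ofFinite _
  set u : ↥D ⧸ I.subgroupOf D := QuotientGroup.mk ⟨x, hx⟩ with hu
  set v : ↥D ⧸ I.subgroupOf D := QuotientGroup.mk ⟨y, hy⟩ with hv
  have hu1 : u ≠ 1 := by
    intro h1
    apply hx1
    rw [hu, QuotientGroup.eq_one_iff] at h1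
    exact Subgroup.mem_subgroupOf.1 h1
  have hv1 : v ≠ 1 := by
    intro h1
    apply hy1
    rw [hv, QuotientGroup.eq_one_iff] at h1
    exact Subgroup.mem_subgroupOf.1 h1
  have huv : u ≠ v := by
    intro h1
    apply hxy
    rw [hu, hv, QuotientGroup.eq] at h1
    exact Subgroup.mem_subgroupOf.1 h1
  have huu : u ^ 2 = 1 := by
    rw [pow_two, hu, ← QuotientGroup.mk_mul, QuotientGroup.eq_one_iff]
    exact Subgroup.mem_subgroupOf.2 hxx
  have hvv : v ^ 2 = 1 := by
    rw [pow_two, hv, ← QuotientGroup.mk_mul, QuotientGroup.eq_one_iff]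
    exact Subgroup.mem_subgroupOf.2 hyy
  have hnc : ¬ IsCyclic (↥D ⧸ I.subgroupOf D) := by
    intro hc
    have hle := IsCyclic.card_pow_eq_one_le (α := ↥D ⧸ I.subgroupOf D) (n := 2) (by norm_num)
    have hsub : ({1, u, v} : Finset (↥D ⧸ I.subgroupOf D)) ⊆
        Finset.univ.filter (fun a : ↥D ⧸ I.subgroupOf D => a ^ 2 = 1) := by
      intro a ha
      simp only [Finset.mem_insert, Finset.mem_singleton] at ha
      rw [Finset.mem_filter]
      refine ⟨Finset.mem_univ _, ?_⟩
      rcases ha with rfl | rfl | rfl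
      · exact one_pow 2
      · exact huu
      · exact hvv
    have h3 : ({1, u, v} : Finset (↥D ⧸ I.subgroupOf D)).card = 3 := by
      rw [Finset.card_insert_of_notMem, Finset.card_insert_of_notMem, Finset.card_singleton]
      · simpa using huv
      · simp only [Finset.mem_insert, Finset.mem_singleton, not_or]
        exact ⟨fun h => hu1 h.symm, fun h => hv1 h.symm⟩
    have := Finset.card_le_card hsub
    omega
  have hexp : Monoid.exponent (↥D ⧸ I.subgroupOf D) = 2 :=
    (not_isCyclic_iff_exponent_eq_prime Nat.prime_two (by rw [hcard]; norm_num)).1 hnc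
  haveI : IsKleinFour (↥D ⧸ I.subgroupOf D) := ⟨hcard, hexp⟩
  obtain ⟨e⟩ := IsKleinFour.nonempty_mulEquiv (G₁ := ↥D ⧸ I.subgroupOf D)
    (G₂ := Multiplicative (ZMod 2 × ZMod 2))
  exact exists_hom_of_quot_equiv I D e

end Cfsg.Agent.Lib.Helper5.SmallQuot
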